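import Mathlib

set_option autoImplicit false
set_option linter.unusedSectionVars false
set_option linter.style.haveILetI false

/-! Generic counting lemmas for a group acting on a finite set (used for S4346). -/

namespace Cfsg.Agent.Lib.Helper76.N22

open Subgroup

/-- if all fibers of `f` on `s` have `m` elements then `|s| = m * |f '' s|` -/
theorem ncard_eq_mul_of_fibers {α β : Type*} [Finite α] (s : Set α) (f : α → β) (m : ℕ)
    (h : ∀ a ∈ s, {b | b ∈ s ∧ f b = f a}.ncard = m) : s.ncard = m * (f '' s).ncard := by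
  classical
  haveI : Fintype α := Fintype.ofFinite α
  have h1 := Finset.card_eq_sum_card_image f s.toFinset
  have h2 : ∀ b ∈ s.toFinset.image f, (s.toFinset.filter (fun a => f a = b)).card = m := by
    intro b hb
    obtain ⟨a, ha, rfl⟩ := Finset.mem_image.mp hb
    rw [← h a (Set.mem_toFinset.mp ha), ← Set.ncard_coe_finset]
    congr 1
    ext x
    simp
  rw [Finset.sum_congr rfl h2, Finset.sum_const, smul_eq_mul] at h1
  rw [Set.ncard_eq_toFinset_card' s, h1, mul_comm]
  congr 1
  rw [← Set.ncard_coe_finset]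
  congr 1
  ext x
  simp

section Action

variable {Γ : Type*} [Group Γ] {Ω : Type*} [MulAction Γ Ω] [Finite Ω]

/-- a `p`-subgroup acting on an invariant set: the number of points is congruent mod `p` to the
number of fixed points. -/
theorem card_modEq_fixed (p : ℕ) [Fact p.Prime] (H : Subgroup Γ) (hH : IsPGroup p H) (X : Set Ω)
    (hX : ∀ h ∈ H, ∀ δ ∈ X, h • δ ∈ X) :
    X.ncard ≡ {δ | δ ∈ X ∧ ∀ h ∈ H, h • δ = δ}.ncard [MOD p] := by
  let S : SubMulAction H Ω :=
    { carrier := X
      smul_mem' := fun h δ hδ => hX h h.2 δ hδ }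
  have h := IsPGroup.card_modEq_card_fixedPoints (p := p) hH S
  have h1 : Nat.card S = X.ncard := Nat.card_coe_set_eq _
  have h2 : Nat.card (MulAction.fixedPoints H S) =
      {δ | δ ∈ X ∧ ∀ h ∈ H, h • δ = δ}.ncard := by
    rw [Nat.card_coe_set_eq, ← Set.ncard_image_of_injective _ Subtype.val_injective]
    congr 1
    ext δ
    constructor
    · rintro ⟨⟨δ', hδ'⟩, hfix, rfl⟩
      refine ⟨hδ', fun h hh => ?_⟩
      have := congrArg Subtype.val (hfix ⟨h, hh⟩)
      exact this
    · rintro ⟨hδ, hfix⟩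
      exact ⟨⟨δ, hδ⟩, fun h => Subtype.ext (hfix h h.2), rfl⟩
  rw [h1, h2] at h
  exact h

theorem isPGroup_zpowers (r : ℕ) (g : Γ) (k : ℕ) (hg : g ^ r ^ k = 1) :
    IsPGroup r (zpowers g) := by
  rintro ⟨x, hx⟩
  obtain ⟨j, rfl⟩ := Subgroup.mem_zpowers_iff.mp hx
  refine ⟨k, Subtype.ext ?_⟩
  show (g ^ j) ^ r ^ k = 1
  rw [← zpow_natCast, ← zpow_mul, mul_comm, zpow_mul, zpow_natCast, hg, one_zpow]

theorem pow_smul_mem (g : Γ) (X : Set Ω) (hX : ∀ δ ∈ X, g • δ ∈ X) (n : ℕ) :
    ∀ δ ∈ X, g ^ n • δ ∈ X := by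
  induction n with
  | zero => intro δ hδ; simpa using hδ
  | succ n ih =>
    intro δ hδ
    rw [pow_succ, mul_smul]
    exact ih _ (hX δ hδ)

/-- an element of `r`-power order acting on an invariant set -/
theorem card_modEq_fixedBy (r : ℕ) [Fact r.Prime] (g : Γ) (k : ℕ) (hg : g ^ r ^ k = 1)
    (X : Set Ω) (hX : ∀ δ ∈ X, g • δ ∈ X) :
    X.ncard ≡ (X ∩ MulAction.fixedBy Ω g).ncard [MOD r] := by
  have hfin : IsOfFinOrder g :=
    isOfFinOrder_iff_pow_eq_one.mpr ⟨r ^ k, pow_pos (Fact.out : r.Prime).pos k, hg⟩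
  have hinv : ∀ h ∈ zpowers g, ∀ δ ∈ X, h • δ ∈ X := by
    intro h hh δ hδ
    rw [← hfin.mem_powers_iff_mem_zpowers] at hh
    obtain ⟨n, rfl⟩ := (Submonoid.mem_powers_iff _ _).mp hh
    exact pow_smul_mem g X hX n δ hδ
  have h := card_modEq_fixed r (zpowers g) (isPGroup_zpowers r g k hg) X hinv
  have hset : {δ | δ ∈ X ∧ ∀ h ∈ zpowers g, h • δ = δ} = X ∩ MulAction.fixedBy Ω g := by
    ext δ
    constructor
    · rintro ⟨h1, h2⟩
      exact ⟨h1, h2 g (Subgroup.mem_zpowers g)⟩
    · rintro ⟨h1, h2⟩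
      refine ⟨h1, fun h hh => ?_⟩
      obtain ⟨j, rfl⟩ := Subgroup.mem_zpowers_iff.mp hh
      exact MulAction.mem_fixedBy_zpow h2 j
  rw [hset] at h
  exact h

/-- an element of `r`-power order: the number of fixed points is congruent to `|Ω|` mod `r` -/
theorem card_modEq_fixedBy_univ (r : ℕ) [Fact r.Prime] (g : Γ) (k : ℕ) (hg : g ^ r ^ k = 1) :
    Nat.card Ω ≡ (MulAction.fixedBy Ω g).ncard [MOD r] := by
  have h := card_modEq_fixedBy (Ω := Ω) r g k hg Set.univ (fun _ _ => Set.mem_univ _)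
  rwa [Set.ncard_univ, Set.univ_inter] at h

/-- if the translates of `A` under a subgroup `H` are pairwise disjoint then `|H| |A| ≤ |Ω|` -/
theorem card_mul_le_of_translates (H : Subgroup Γ) (A : Set Ω)
    (hA : ∀ h ∈ H, h ≠ 1 → ∀ δ ∈ A, h • δ ∉ A) : Nat.card H * A.ncard ≤ Nat.card Ω := by
  have hinj : Function.Injective (fun x : H × A => (x.1 : Γ) • (x.2 : Ω)) := by
    rintro ⟨h, δ⟩ ⟨h', δ'⟩ heq
    simp only at heq
    have h1 : ((h'⁻¹ * h : H) : Γ) • (δ : Ω) = δ' := by
      rw [Subgroup.coe_mul, mul_smul, heq, Subgroup.coe_inv, inv_smul_smul]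
    by_cases hh : h'⁻¹ * h = 1
    · have hh' : h = h' := by
        rw [inv_mul_eq_one] at hh; exact hh.symm
      subst hh'
      rw [hh] at h1
      simp only [OneMemClass.coe_one, one_smul] at h1
      exact Prod.ext rfl (Subtype.ext h1)
    · exfalso
      refine hA _ (h'⁻¹ * h).2 ?_ δ δ.2 (h1 ▸ δ'.2)
      intro h0
      exact hh (Subtype.ext h0)
  have := Nat.card_le_card_of_injective _ hinj
  rwa [Nat.card_prod, Nat.card_coe_set_eq] at this

/-- Burnside counting: if all nonidentity elements of `A` have exactly `c` fixed points,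
then `|A|` divides `|Ω| - c` -/
theorem card_dvd_of_fix (A : Subgroup Γ) [Finite A] (c : ℕ) (hc : c ≤ Nat.card Ω)
    (hfix : ∀ a ∈ A, a ≠ 1 → (MulAction.fixedBy Ω a).ncard = c) :
    Nat.card A ∣ Nat.card Ω - c := by
  classical
  haveI : Fintype A := Fintype.ofFinite _
  haveI : Fintype Ω := Fintype.ofFinite _
  haveI : Fintype (Quotient (MulAction.orbitRel A Ω)) := Fintype.ofFinite _
  haveI : ∀ a : A, Fintype (MulAction.fixedBy Ω a) := fun a => Fintype.ofFinite _
  have hb := MulAction.sum_card_fixedBy_eq_card_orbits_mul_card_group A Ω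
  have hfix' : ∀ a : A, Fintype.card (MulAction.fixedBy Ω a) =
      c + if a = 1 then Nat.card Ω - c else 0 := by
    intro a
    rw [← Nat.card_eq_fintype_card, Nat.card_coe_set_eq]
    split_ifs with h
    · subst h
      have : MulAction.fixedBy Ω (1 : A) = Set.univ := by
        ext Q
        simp
      rw [this, Set.ncard_univ]
      omega
    · have h1 : (a : Γ) ≠ 1 := fun h1 => h (Subtype.ext h1)
      have h2 := hfix a a.2 h1
      rw [add_zero]
      exact h2
  simp_rw [hfix'] at hb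
  rw [Finset.sum_add_distrib, Finset.sum_ite_eq' Finset.univ (1 : A)] at hb
  simp only [Finset.sum_const, Finset.card_univ, smul_eq_mul, Finset.mem_univ,
    if_true] at hb
  rw [Nat.card_eq_fintype_card (α := A)]
  exact (Nat.dvd_add_right (Dvd.intro _ rfl)).mp ⟨_, by rw [hb, mul_comm]⟩

/-- invariance of counts under a transitive action -/
theorem ncard_setOf_eq_of_invariant [MulAction.IsPretransitive Γ Ω] (pred : Ω → Ω → Prop)
    (hpred : ∀ (g : Γ) (a b : Ω), pred a b → pred (g • a) (g • b)) (a a' : Ω) :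
    {b | pred a b}.ncard = {b | pred a' b}.ncard := by
  obtain ⟨g, rfl⟩ := MulAction.exists_smul_eq Γ a a'
  have hset : {b | pred (g • a) b} = (fun b => g • b) '' {b | pred a b} := by
    ext b
    constructor
    · intro hb
      refine ⟨g⁻¹ • b, ?_, smul_inv_smul g b⟩
      have := hpred g⁻¹ _ _ hb
      rwa [inv_smul_smul] at this
    · rintro ⟨b', hb', rfl⟩
      exact hpred g _ _ hb'
  rw [hset, Set.ncard_image_of_injective _ (MulAction.injective g)]

end Action

end Cfsg.Agent.Lib.Helper76.N22
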