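import Mathlib
import Cfsg.Agent.S4304
import Cfsg.Agent.Lib.Helper23.Syl
import Cfsg.Agent.Lib.Helper23.SignArg
import Cfsg.Agent.Lib.Helper23.Count
import Cfsg.Agent.Lib.Helper23.SimpleGen
import Cfsg.Agent.Lib.Helper76.N22Count

set_option autoImplicit false
set_option linter.unusedSectionVars false
set_option linter.style.haveILetI false

/-! Sylow `p`-subgroups of prime order `p`: fixed points of elements acting on `Sylow p G`,
centralizers of involutions, and counting lemmas (used for the small-order nonsimplicity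
statements S1016, S1017, ...). -/

namespace Cfsg.Agent.Lib.Helper76.SylPrime

open Subgroup
open Cfsg.Agent.Lib.Helper76.N22
open Cfsg.Agent.Lib.Helper23

section loc
variable {G : Type*} [Group G] [Finite G] {p : ℕ} [hp : Fact p.Prime]

theorem pow_eq_one (hc : ∀ Q : Sylow p G, Nat.card (Q : Subgroup G) = p) (P : Sylow p G) (x : G)
    (hx : x ∈ (P : Subgroup G)) : x ^ p = 1 := by
  have h1 : (⟨x, hx⟩ : (P : Subgroup G)) ^ Nat.card (P : Subgroup G) = 1 := pow_card_eq_one'
  rw [hc P] at h1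
  exact congrArg Subtype.val h1

theorem zpowers_eq (hc : ∀ Q : Sylow p G, Nat.card (Q : Subgroup G) = p) (P : Sylow p G) (x : G)
    (hx : x ∈ (P : Subgroup G)) (hx1 : x ≠ 1) : zpowers x = (P : Subgroup G) := by
  apply Subgroup.eq_of_le_of_card_ge
  · rw [Subgroup.zpowers_le]; exact hx
  · rw [hc P, Nat.card_zpowers, orderOf_eq_prime (pow_eq_one hc P x hx) hx1]

theorem exists_ne_one_mem (hc : ∀ Q : Sylow p G, Nat.card (Q : Subgroup G) = p) (P : Sylow p G) :
    ∃ x ∈ (P : Subgroup G), x ≠ 1 := by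
  have h1 : (P : Subgroup G) ≠ ⊥ := by
    rw [← Subgroup.one_lt_card_iff_ne_bot, hc P]
    exact hp.out.one_lt
  obtain ⟨⟨x, hx⟩, hx1⟩ := Subgroup.ne_bot_iff_exists_ne_one.mp h1
  exact ⟨x, hx, fun h => hx1 (Subtype.ext h)⟩

theorem sylow_ne_bot (hc : ∀ Q : Sylow p G, Nat.card (Q : Subgroup G) = p) (P : Sylow p G) :
    (P : Subgroup G) ≠ ⊥ := by
  rw [← Subgroup.one_lt_card_iff_ne_bot, hc P]
  exact hp.out.one_lt

/-- a nontrivial element of a Sylow `p`-subgroup `P` of order `p` fixes only `P` -/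
theorem eq_of_fix_of_mem (hc : ∀ Q : Sylow p G, Nat.card (Q : Subgroup G) = p) (P Q : Sylow p G)
    (x : G) (hx : x ∈ (P : Subgroup G)) (hx1 : x ≠ 1) (hxQ : x • Q = Q) : Q = P := by
  by_contra hne
  rw [Sylow.smul_eq_iff_mem_normalizer] at hxQ
  have h2 : x ∈ (P : Subgroup G) ⊓ normalizer (Q : Set G) := ⟨hx, hxQ⟩
  rw [IsPGroup.inf_normalizer_sylow P.2 Q,
    sylow_inf_eq_bot_of_card_prime P Q (hc P) (Ne.symm hne), Subgroup.mem_bot] at h2
  exact hx1 h2

theorem mem_centralizer_of_commute (hc : ∀ Q : Sylow p G, Nat.card (Q : Subgroup G) = p)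
    (Q : Sylow p G) (h : G) (hh : h ∈ (Q : Subgroup G)) (hh1 : h ≠ 1) (z : G)
    (hz : h * z = z * h) : z ∈ centralizer ((Q : Subgroup G) : Set G) := by
  rw [Subgroup.mem_centralizer_iff]
  intro y hy
  have hy' : y ∈ zpowers h := by rw [zpowers_eq hc Q h hh hh1]; exact hy
  obtain ⟨j, rfl⟩ := Subgroup.mem_zpowers_iff.mp hy'
  have hcomm : Commute h z := hz
  exact (hcomm.zpow_left j).eq

theorem sylow_le_centralizer (hc : ∀ Q : Sylow p G, Nat.card (Q : Subgroup G) = p)
    (P : Sylow p G) : (P : Subgroup G) ≤ centralizer ((P : Subgroup G) : Set G) := by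
  obtain ⟨x, hx, hx1⟩ := exists_ne_one_mem hc P
  intro y hy
  apply mem_centralizer_of_commute hc P x hx hx1
  have hy' : y ∈ zpowers x := by rw [zpowers_eq hc P x hx hx1]; exact hy
  obtain ⟨j, rfl⟩ := Subgroup.mem_zpowers_iff.mp hy'
  exact ((Commute.refl x).zpow_right j).eq

theorem ncard_mod_of_mem (P : Sylow p G) (X : Set (Sylow p G))
    (hX : ∀ x ∈ (P : Subgroup G), ∀ δ ∈ X, x • δ ∈ X) (hP : P ∈ X) : X.ncard % p = 1 := by
  have hm := card_modEq_fixed p (P : Subgroup G) P.2 X hX
  have hset : {R | R ∈ X ∧ ∀ x ∈ (P : Subgroup G), x • R = R} = {P} := by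
    ext R
    rw [Set.mem_singleton_iff]
    constructor
    · rintro ⟨-, hfix⟩
      have h1 : R ∈ MulAction.fixedPoints (P : Subgroup G) (Sylow p G) := fun x => hfix x x.2
      rw [P.2.sylow_mem_fixedPoints_iff] at h1
      exact (S4304.sylow_eq_of_le h1).symm
    · rintro rfl
      refine ⟨hP, fun x hx => ?_⟩
      rw [Sylow.smul_eq_iff_mem_normalizer]
      exact Subgroup.le_normalizer hx
  rw [hset, Set.ncard_singleton, Nat.ModEq, Nat.mod_eq_of_lt hp.out.one_lt] at hm
  exact hm

theorem ncard_mod_of_notMem (P : Sylow p G) (X : Set (Sylow p G))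
    (hX : ∀ x ∈ (P : Subgroup G), ∀ δ ∈ X, x • δ ∈ X) (hP : P ∉ X) : X.ncard % p = 0 := by
  have hm := card_modEq_fixed p (P : Subgroup G) P.2 X hX
  have hset : {R | R ∈ X ∧ ∀ x ∈ (P : Subgroup G), x • R = R} = ∅ := by
    ext R
    simp only [Set.mem_empty_iff_false, iff_false]
    rintro ⟨hR, hfix⟩
    have h1 : R ∈ MulAction.fixedPoints (P : Subgroup G) (Sylow p G) := fun x => hfix x x.2
    rw [P.2.sylow_mem_fixedPoints_iff] at h1
    rw [← S4304.sylow_eq_of_le h1] at hR
    exact hP hR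
  rw [hset, Set.ncard_empty, Nat.ModEq, Nat.zero_mod] at hm
  exact hm

/-- the fixed points of an element centralizing `P` form a `P`-invariant set -/
theorem fixedBy_invariant (P : Sylow p G) (y : G)
    (hy : y ∈ centralizer ((P : Subgroup G) : Set G)) :
    ∀ x ∈ (P : Subgroup G), ∀ δ ∈ MulAction.fixedBy (Sylow p G) y,
      x • δ ∈ MulAction.fixedBy (Sylow p G) y := by
  intro x hx R hR
  show y • (x • R) = x • R
  have hxy : x * y = y * x := Subgroup.mem_centralizer_iff.mp hy x hx
  have hR' : y • R = R := hR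
  rw [← mul_smul, ← hxy, mul_smul, hR']

theorem smul_eq_of_mem_centralizer (P : Sylow p G) (y : G)
    (hy : y ∈ centralizer ((P : Subgroup G) : Set G)) : y • P = P := by
  rw [Sylow.smul_eq_iff_mem_normalizer]
  exact Subgroup.centralizer_le_normalizer _ hy

/-- an element centralizing a Sylow `p`-subgroup has `1` mod `p` fixed points -/
theorem fix_mod (P : Sylow p G) (y : G)
    (hy : y ∈ centralizer ((P : Subgroup G) : Set G)) :
    (MulAction.fixedBy (Sylow p G) y).ncard % p = 1 :=
  ncard_mod_of_mem P _ (fixedBy_invariant P y hy) (smul_eq_of_mem_centralizer P y hy)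

/-- an element normalizing but not centralizing `Q` has few fixed points -/
theorem fix_le_of_not_centralizer (hc : ∀ Q : Sylow p G, Nat.card (Q : Subgroup G) = p)
    (Q : Sylow p G) (z : G) (hzQ : z • Q = Q)
    (hzC : z ∉ centralizer ((Q : Subgroup G) : Set G)) :
    p * ((MulAction.fixedBy (Sylow p G) z).ncard - 1) ≤ Nat.card (Sylow p G) := by
  have hzN : z ∈ normalizer ((Q : Subgroup G) : Set G) :=
    Sylow.smul_eq_iff_mem_normalizer.mp hzQ
  have hT := card_mul_le_of_translates (Ω := Sylow p G) (Q : Subgroup G)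
    (MulAction.fixedBy (Sylow p G) z \ {Q}) ?_
  · rw [hc Q, Set.ncard_sdiff_singleton_of_mem
      (show Q ∈ MulAction.fixedBy (Sylow p G) z from hzQ)] at hT
    exact hT
  · rintro h hh hh1 δ ⟨hδ, hδQ⟩ ⟨hhδ, -⟩
    have hδ' : z • δ = δ := hδ
    have hhδ' : z • (h • δ) = h • δ := hhδ
    have hfix : (z⁻¹ * h⁻¹ * z * h) • δ = δ := by
      rw [mul_smul, mul_smul, mul_smul, hhδ', inv_smul_smul, inv_smul_eq_iff, hδ']
    have hmem : z⁻¹ * h⁻¹ * z * h ∈ (Q : Subgroup G) := by
      refine mul_mem ?_ hh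
      have h1 := (Subgroup.mem_normalizer_iff.mp (inv_mem hzN) h⁻¹).mp (inv_mem hh)
      rwa [inv_inv] at h1
    by_cases hone : z⁻¹ * h⁻¹ * z * h = 1
    · apply hzC
      apply mem_centralizer_of_commute hc Q h hh hh1 z
      have h2 : z * h = h * z := by
        calc z * h = h * (z * (z⁻¹ * h⁻¹ * z * h)) := by group
          _ = h * z := by rw [hone, mul_one]
      exact h2.symm
    · exact hδQ (eq_of_fix_of_mem hc Q δ _ hmem hone hfix)

/-- if a subgroup `D` preserves a set `F` of Sylow `p`-subgroups, all of them contained in `D`,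
then `D` is transitive on `F` -/
theorem card_eq_of_orbit (P : Sylow p G) (D : Subgroup G) (F : Set (Sylow p G)) (hPF : P ∈ F)
    (hDF : ∀ d ∈ D, ∀ Q ∈ F, d • Q ∈ F) (hQD : ∀ Q ∈ F, (Q : Subgroup G) ≤ D) :
    Nat.card D = F.ncard * Nat.card (D ⊓ normalizer ((P : Subgroup G) : Set G) : Subgroup G) := by
  have hsub : MulAction.orbit D P ⊆ F := by
    rintro R ⟨c, rfl⟩
    exact hDF c c.2 P hPF
  have hinv : ∀ Q ∈ F, ∀ x ∈ (Q : Subgroup G), ∀ δ ∈ MulAction.orbit D P,
      x • δ ∈ MulAction.orbit D P := by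
    rintro Q hQ x hx δ ⟨c, rfl⟩
    refine ⟨⟨x, hQD Q hQ hx⟩ * c, ?_⟩
    show ((x * (c : G)) • P) = x • ((c : G) • P)
    rw [mul_smul]
  have horb1 : (MulAction.orbit D P).ncard % p = 1 :=
    ncard_mod_of_mem P _ (hinv P hPF) (MulAction.mem_orbit_self P)
  have horb : MulAction.orbit D P = F := by
    apply Set.Subset.antisymm hsub
    intro Q hQ
    by_contra hQO
    have := ncard_mod_of_notMem Q _ (hinv Q hQ) hQO
    omega
  have h1 := MulAction.index_stabilizer D P
  rw [horb] at h1
  have h2 := Subgroup.card_mul_index (MulAction.stabilizer D P)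
  have h3 : Nat.card (MulAction.stabilizer D P) =
      Nat.card (D ⊓ normalizer ((P : Subgroup G) : Set G) : Subgroup G) := by
    have h4 : MulAction.stabilizer D P = (normalizer ((P : Subgroup G) : Set G)).subgroupOf D := by
      ext x
      rw [MulAction.mem_stabilizer_iff, Subgroup.mem_subgroupOf, Subgroup.smul_def,
        Sylow.smul_eq_iff_mem_normalizer]
      rfl
    rw [h4, ← Subgroup.inf_subgroupOf_left]
    exact Nat.card_congr (Subgroup.subgroupOfEquivOfLe inf_le_left).toEquiv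
  rw [h1, h3] at h2
  rw [← h2, mul_comm]

/-- if `z` centralizes every Sylow `p`-subgroup it fixes, then `C_G(z)` is transitive on
the fixed points of `z` -/
theorem card_centralizer_eq (P : Sylow p G) (z : G) (hzP : z • P = P)
    (hcent : ∀ Q : Sylow p G, z • Q = Q → z ∈ centralizer ((Q : Subgroup G) : Set G)) :
    Nat.card (centralizer ({z} : Set G)) = (MulAction.fixedBy (Sylow p G) z).ncard *
      Nat.card (centralizer ({z} : Set G) ⊓ normalizer ((P : Subgroup G) : Set G) : Subgroup G) := by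
  apply card_eq_of_orbit P (centralizer ({z} : Set G)) (MulAction.fixedBy (Sylow p G) z)
    (show P ∈ MulAction.fixedBy (Sylow p G) z from hzP)
  · intro d hd Q hQ
    have hc : z * d = d * z := Subgroup.mem_centralizer_iff.mp hd z rfl
    have hQ' : z • Q = Q := hQ
    show z • (d • Q) = d • Q
    rw [← mul_smul, hc, mul_smul, hQ']
  · intro Q hQ x hx
    rw [Subgroup.mem_centralizer_iff]
    intro w hw
    rw [Set.mem_singleton_iff] at hw
    rw [hw]
    exact (Subgroup.mem_centralizer_iff.mp (hcent Q hQ) x hx).symm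

/-- a `p`-subgroup acting by conjugation on a conjugacy class -/
theorem card_conj_modEq (P : Subgroup G) (hP : IsPGroup p P) (t : G) :
    (centralizer ({t} : Set G)).index ≡
      {s : G | IsConj t s ∧ s ∈ centralizer (P : Set G)}.ncard [MOD p] := by
  have hX : ∀ h ∈ P.map (ConjAct.toConjAct (G := G)).toMonoidHom, ∀ δ ∈ {s : G | IsConj t s},
      h • δ ∈ {s : G | IsConj t s} := by
    rintro _ ⟨x, hx, rfl⟩ δ hδ
    show IsConj t (ConjAct.toConjAct x • δ)
    rw [ConjAct.toConjAct_smul]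
    exact IsConj.trans hδ (isConj_iff.mpr ⟨x, rfl⟩)
  have hH : IsPGroup p (P.map (ConjAct.toConjAct (G := G)).toMonoidHom) := hP.map _
  have hm := card_modEq_fixed (Γ := ConjAct G) (Ω := G) p _ hH _ hX
  have h1 : ({s : G | IsConj t s} : Set G).ncard = (centralizer ({t} : Set G)).index := by
    rw [← card_isConj_eq_index t]
    exact (Nat.card_coe_set_eq _).symm
  have hset : {δ | δ ∈ {s : G | IsConj t s} ∧
      ∀ h ∈ P.map (ConjAct.toConjAct (G := G)).toMonoidHom, h • δ = δ} =
      {s : G | IsConj t s ∧ s ∈ centralizer (P : Set G)} := by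
    ext δ
    constructor
    · rintro ⟨h1, h2⟩
      refine ⟨h1, ?_⟩
      rw [Subgroup.mem_centralizer_iff]
      intro x hx
      have h3 : ConjAct.toConjAct x • δ = δ := h2 _ ⟨x, hx, rfl⟩
      rw [ConjAct.toConjAct_smul] at h3
      calc x * δ = x * δ * x⁻¹ * x := by group
        _ = δ * x := by rw [h3]
    · rintro ⟨h1, h2⟩
      refine ⟨h1, ?_⟩
      rintro _ ⟨x, hx, rfl⟩
      show ConjAct.toConjAct x • δ = δ
      rw [ConjAct.toConjAct_smul, Subgroup.mem_centralizer_iff.mp h2 x hx, mul_inv_cancel_right]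
  rw [hset, h1] at hm
  exact hm

/-- involutions act on the Sylow `p`-subgroups of a nonabelian simple group as even
permutations -/
theorem fix_mod_four [IsSimpleGroup G] (hG : ¬ IsMulCommutative G)
    (hn : Nat.card (Sylow p G) ≠ 1) (w : G) (hw1 : w ≠ 1) (hw2 : w ^ 2 = 1) :
    (MulAction.fixedBy (Sylow p G) w).ncard % 4 = Nat.card (Sylow p G) % 4 := by
  classical
  haveI : Fintype (Sylow p G) := Fintype.ofFinite _
  obtain ⟨hinj, hsign⟩ := simple_sylow_action hG hn
  have hord : orderOf (MulAction.toPermHom G (Sylow p G) w) = 2 := by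
    rw [orderOf_injective _ hinj, orderOf_eq_prime hw2 hw1]
  have h := card_fixed_mod_four _ hord (hsign w)
  rw [← Nat.card_eq_fintype_card] at h
  rw [← h]
  congr 1
  rw [← Set.ncard_coe_finset]
  congr 1
  ext Q
  simp [MulAction.mem_fixedBy]

/-- the action on the Sylow `p`-subgroups of a nonabelian simple group is faithful -/
theorem fix_lt [IsSimpleGroup G] (hG : ¬ IsMulCommutative G)
    (hn : Nat.card (Sylow p G) ≠ 1) (y : G) (hy1 : y ≠ 1) :
    (MulAction.fixedBy (Sylow p G) y).ncard < Nat.card (Sylow p G) := by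
  classical
  haveI : Fintype (Sylow p G) := Fintype.ofFinite _
  obtain ⟨hinj, -⟩ := simple_sylow_action hG hn
  by_contra hcon
  push Not at hcon
  apply hy1
  apply hinj
  rw [map_one]
  have huniv : MulAction.fixedBy (Sylow p G) y = Set.univ := by
    rw [Set.eq_univ_iff_ncard]
    have := Set.ncard_le_card (MulAction.fixedBy (Sylow p G) y)
    omega
  refine Equiv.Perm.ext fun Q => ?_
  have hQ : Q ∈ MulAction.fixedBy (Sylow p G) y := by rw [huniv]; trivial
  exact hQ

/-- a `q`-element has as many fixed points as `n_p` mod `q` -/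
theorem fix_modEq_of_pow (q : ℕ) [Fact q.Prime] (y : G) (k : ℕ) (hy : y ^ q ^ k = 1) :
    (MulAction.fixedBy (Sylow p G) y).ncard % q = Nat.card (Sylow p G) % q :=
  (card_modEq_fixedBy_univ (Ω := Sylow p G) q y k hy).symm

/-- `N(P)/C(P)` for a Sylow `p`-subgroup of order `p` in a nonabelian simple group -/
theorem card_centralizer_mul [IsSimpleGroup G] (hG : ¬ IsMulCommutative G)
    (hc : ∀ Q : Sylow p G, Nat.card (Q : Subgroup G) = p) (P : Sylow p G) :
    ∃ r c : ℕ, r ∣ p - 1 ∧ r ≠ 1 ∧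
      Nat.card (centralizer ((P : Subgroup G) : Set G)) = p * c ∧
      Nat.card (normalizer ((P : Subgroup G) : Set G)) = p * c * r ∧
      p * c * r * Nat.card (Sylow p G) = Nat.card G := by
  have h1 := S4304.card_mul_relIndex_of_le (sylow_le_centralizer hc P)
  have h2 := S4304.card_mul_relIndex_of_le (centralizer_le_normalizer ((P : Subgroup G) : Set G))
  have h3 := card_normalizer_sylow_mul P
  rw [hc P] at h1
  refine ⟨(centralizer ((P : Subgroup G) : Set G)).relIndex (normalizer ((P : Subgroup G) : Set G)),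
    (P : Subgroup G).relIndex (centralizer ((P : Subgroup G) : Set G)),
    relIndex_centralizer_normalizer_dvd_pred (P : Subgroup G) (hc P), ?_, h1.symm, ?_, ?_⟩
  · intro h
    rw [relIndex_eq_one] at h
    exact simple_not_normalizer_le_centralizer hG P (sylow_ne_bot hc P) h
  · rw [h1, h2]
  · rw [h1, h2, h3]

/-- Cauchy's theorem inside a subgroup -/
theorem exists_mem_pow_eq_one (H : Subgroup G) (q : ℕ) [Fact q.Prime] (hq : q ∣ Nat.card H) :
    ∃ x ∈ H, x ≠ 1 ∧ x ^ q = 1 := by
  obtain ⟨u, hu⟩ := exists_prime_orderOf_dvd_card' q hq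
  refine ⟨u, u.2, ?_, ?_⟩
  · intro h
    have h1 : u = 1 := Subtype.ext h
    rw [h1, orderOf_one] at hu
    exact (Fact.out : q.Prime).one_lt.ne hu
  · have := pow_orderOf_eq_one u
    rw [hu] at this
    exact_mod_cast congrArg Subtype.val this

theorem dvd_card_of_mem (H : Subgroup G) (q : ℕ) [Fact q.Prime] (x : G) (hx : x ∈ H)
    (hx1 : x ≠ 1) (hxq : x ^ q = 1) : q ∣ Nat.card H := by
  have h := Subgroup.orderOf_dvd_natCard H hx
  rwa [orderOf_eq_prime hxq hx1] at h

/-- the involutions of `C(P)` (and `1`) give distinct cosets of `P` -/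
theorem card_invol_le (hc : ∀ Q : Sylow p G, Nat.card (Q : Subgroup G) = p) (P : Sylow p G)
    (hp2 : p ≠ 2) (T : Set G)
    (hT : ∀ s ∈ T, s ∈ centralizer ((P : Subgroup G) : Set G) ∧ s ^ 2 = 1) :
    T.ncard * p ≤ Nat.card (centralizer ((P : Subgroup G) : Set G)) := by
  obtain ⟨k, hk⟩ := hp.out.odd_of_ne_two hp2
  have hpow : ∀ s ∈ T, s ^ p = s := by
    intro s hs
    rw [hk, pow_succ, pow_mul, (hT s hs).2, one_pow, one_mul]
  have hmem : ∀ q : T × (P : Subgroup G),
      (q.1 : G) * (q.2 : G) ∈ centralizer ((P : Subgroup G) : Set G) := fun q =>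
    mul_mem (hT _ q.1.2).1 (sylow_le_centralizer hc P q.2.2)
  have hpw : ∀ q : T × (P : Subgroup G), ((q.1 : G) * (q.2 : G)) ^ p = (q.1 : G) := by
    intro q
    have hcomm : Commute (q.1 : G) (q.2 : G) :=
      (Subgroup.mem_centralizer_iff.mp (hT _ q.1.2).1 _ q.2.2).symm
    rw [hcomm.mul_pow, hpow _ q.1.2, pow_eq_one hc P _ q.2.2, mul_one]
  have hinj : Function.Injective (fun q : T × (P : Subgroup G) =>
      (⟨(q.1 : G) * (q.2 : G), hmem q⟩ : centralizer ((P : Subgroup G) : Set G))) := by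
    intro q q' h
    have h1 : (q.1 : G) * (q.2 : G) = (q'.1 : G) * (q'.2 : G) := congrArg Subtype.val h
    have h2 : (q.1 : G) = (q'.1 : G) := by rw [← hpw q, ← hpw q', h1]
    have h3 : (q.2 : G) = (q'.2 : G) := by
      rw [h2] at h1
      exact mul_left_cancel h1
    exact Prod.ext (Subtype.ext h2) (Subtype.ext h3)
  have h := Nat.card_le_card_of_injective _ hinj
  rwa [Nat.card_prod, Nat.card_coe_set_eq, hc P] at h

/-- if `|C(P)| = p q^2` then `C(P)/P` is abelian -/
theorem commutator_mem (hc : ∀ Q : Sylow p G, Nat.card (Q : Subgroup G) = p) (P : Sylow p G)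
    (q : ℕ) [hq : Fact q.Prime]
    (hC : Nat.card (centralizer ((P : Subgroup G) : Set G)) = p * q ^ 2) (a b : G)
    (ha : a ∈ centralizer ((P : Subgroup G) : Set G))
    (hb : b ∈ centralizer ((P : Subgroup G) : Set G)) :
    (a * b)⁻¹ * (b * a) ∈ (P : Subgroup G) := by
  have hPC := sylow_le_centralizer hc P
  haveI hN : ((P : Subgroup G).subgroupOf (centralizer ((P : Subgroup G) : Set G))).Normal := by
    refine ⟨fun n hn g => ?_⟩
    rw [Subgroup.mem_subgroupOf] at hn ⊢
    have h1 : (n : G) * (g : G) = (g : G) * (n : G) :=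
      Subgroup.mem_centralizer_iff.mp g.2 n hn
    have h2 : ((g * n * g⁻¹ : centralizer ((P : Subgroup G) : Set G)) : G) = n := by
      rw [Subgroup.coe_mul, Subgroup.coe_mul, Subgroup.coe_inv, ← h1, mul_inv_cancel_right]
    rw [h2]
    exact hn
  have hcard : Nat.card (centralizer ((P : Subgroup G) : Set G) ⧸
      (P : Subgroup G).subgroupOf (centralizer ((P : Subgroup G) : Set G))) = q ^ 2 := by
    have h1 := Subgroup.card_eq_card_quotient_mul_card_subgroup
      ((P : Subgroup G).subgroupOf (centralizer ((P : Subgroup G) : Set G)))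
    have h2 : Nat.card ((P : Subgroup G).subgroupOf (centralizer ((P : Subgroup G) : Set G))) = p :=
      (Nat.card_congr (Subgroup.subgroupOfEquivOfLe hPC).toEquiv).trans (hc P)
    rw [h2, hC, mul_comm] at h1
    exact (Nat.eq_of_mul_eq_mul_right hp.out.pos h1).symm
  have hcomm := IsPGroup.isMulCommutative_of_card_eq_prime_sq hcard
  have h3 := hcomm.is_comm.comm (QuotientGroup.mk (⟨a, ha⟩ : centralizer ((P : Subgroup G) : Set G)))
    (QuotientGroup.mk (⟨b, hb⟩ : centralizer ((P : Subgroup G) : Set G)))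
  rw [← QuotientGroup.mk_mul, ← QuotientGroup.mk_mul, QuotientGroup.eq,
    Subgroup.mem_subgroupOf] at h3
  exact h3

/-- if `|C(P)| = p q^2` with `p` odd then every involution of `C(P)` is central in `C(P)` -/
theorem invol_central (hc : ∀ Q : Sylow p G, Nat.card (Q : Subgroup G) = p) (P : Sylow p G)
    (hp2 : p ≠ 2) (q : ℕ) [hq : Fact q.Prime]
    (hC : Nat.card (centralizer ((P : Subgroup G) : Set G)) = p * q ^ 2) (t a : G)
    (ht : t ∈ centralizer ((P : Subgroup G) : Set G)) (ht2 : t ^ 2 = 1)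
    (ha : a ∈ centralizer ((P : Subgroup G) : Set G)) : a * t = t * a := by
  have hx := commutator_mem hc P q hC a t ha ht
  obtain ⟨x, hxdef⟩ : ∃ x : G, x = (a * t)⁻¹ * (t * a) := ⟨_, rfl⟩
  rw [← hxdef] at hx
  have hxt : x * t = t * x := Subgroup.mem_centralizer_iff.mp ht x hx
  have h1 : a⁻¹ * t * a = t * x := by rw [hxdef]; group
  have h2 : (t * x) ^ 2 = 1 := by
    rw [← h1, pow_two]
    calc a⁻¹ * t * a * (a⁻¹ * t * a) = a⁻¹ * (t * t) * a := by group
      _ = 1 := by rw [← pow_two, ht2]; group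
  have hcomm : Commute t x := hxt.symm
  rw [hcomm.mul_pow, ht2, one_mul] at h2
  have h3 : x ^ p = 1 := pow_eq_one hc P x hx
  obtain ⟨k, hk⟩ := hp.out.odd_of_ne_two hp2
  have h4 : x = 1 := by
    have : x ^ p = x := by rw [hk, pow_succ, pow_mul, h2, one_pow, one_mul]
    rw [← this, h3]
  rw [h4, mul_one] at h1
  calc a * t = a * (a⁻¹ * t * a) := by rw [h1]
    _ = t * a := by group

end loc

end Cfsg.Agent.Lib.Helper76.SylPrime
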