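import Cfsg.Agent.Lib.Helper70.HeODefs

/-! Project HeO (helper70, S2075), piece CHASE: an element of `C(z)` which is the only one
satisfying a list of relations with elements fixed by an automorphism is fixed by it. -/

set_option autoImplicit false

namespace Cfsg.Agent.Lib.Helper76.HeOCHASE

open Cfsg.Agent.Lib.Helper70.HeO

theorem chase_getD {G : Type} [Group G] {T : Type} (t1 : T) (Rp : G → T → Prop) (R1 : Rp 1 t1)
    (fx : List G) (fxT : List T) (hfx : List.Forall₂ Rp fx fxT) :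
    ∀ j, Rp (fx.getD j 1) (fxT.getD j t1) := by
  induction hfx with
  | nil =>
    intro j
    simpa using R1
  | cons h _ ih =>
    intro j
    cases j with
    | zero => simpa using h
    | succ j => simpa using ih j

theorem chase_ev {G : Type} [Group G] {T : Type} (tc : T → T → T) (t1 : T)
    (Rp : G → T → Prop) (R1 : Rp 1 t1) (Rm : ∀ g h N M, Rp g N → Rp h M → Rp (g * h) (tc N M))
    (fx : List G) (fxT : List T) (hfx : List.Forall₂ Rp fx fxT) (s : G) (N : T) (hs : Rp s N) :
    ∀ pat : List ℕ, Rp (evG fx s pat) (evT tc t1 fxT N pat) := by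
  intro pat
  induction pat with
  | nil => exact R1
  | cons a l ih =>
    cases a with
    | zero => exact Rm _ _ _ _ hs ih
    | succ j => exact Rm _ _ _ _ (chase_getD t1 Rp R1 fx fxT hfx j) ih

theorem chase_pw {G : Type} [Group G] {T : Type} (tc : T → T → T) (t1 : T)
    (Rp : G → T → Prop) (R1 : Rp 1 t1) (Rm : ∀ g h N M, Rp g N → Rp h M → Rp (g * h) (tc N M))
    (g : G) (N : T) (hg : Rp g N) : ∀ k : ℕ, Rp (g ^ k) (tpw tc t1 N k) := by
  intro k
  induction k with
  | zero =>
    rw [pow_zero]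
    exact R1
  | succ k ih =>
    rw [pow_succ']
    exact Rm _ _ _ _ hg ih

theorem chase_one {G : Type} [Group G] {T : Type} (tc : T → T → T) (t1 : T)
    (Rp : G → T → Prop) (R1 : Rp 1 t1) (Rm : ∀ g h N M, Rp g N → Rp h M → Rp (g * h) (tc N M))
    (Rinj : ∀ g h N, Rp g N → Rp h N → g = h) (Rfun : ∀ g N M, Rp g N → Rp g M → N = M)
    (g : G) (N : T) (hg : Rp g N) (k : ℕ) : g ^ k = 1 ↔ tpw tc t1 N k = t1 := by
  have h := chase_pw tc t1 Rp R1 Rm g N hg k
  constructor
  · intro h1
    rw [h1] at h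
    exact Rfun _ _ _ h R1
  · intro h1
    rw [h1] at h
    exact Rinj _ _ _ h R1

theorem chase_fix {G : Type} [Group G] (fx : List G) (φ : MulAut G) (hφ : ∀ y ∈ fx, φ y = y)
    (j : ℕ) : φ (fx.getD j 1) = fx.getD j 1 := by
  by_cases h : j < fx.length
  · rw [List.getD_eq_getElem _ _ h]
    exact hφ _ (List.getElem_mem h)
  · rw [List.getD_eq_default _ _ (not_lt.mp h), map_one]

theorem chase_phi {G : Type} [Group G] (fx : List G) (φ : MulAut G) (hφ : ∀ y ∈ fx, φ y = y)
    (s : G) : ∀ pat : List ℕ, φ (evG fx s pat) = evG fx (φ s) pat := by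
  intro pat
  induction pat with
  | nil => exact map_one φ
  | cons a l ih =>
    cases a with
    | zero =>
      show φ (s * evG fx s l) = φ s * evG fx (φ s) l
      rw [map_mul, ih]
    | succ j =>
      show φ (fx.getD j 1 * evG fx s l) = fx.getD j 1 * evG fx (φ s) l
      rw [map_mul, ih, chase_fix fx φ hφ j]

/-- PIECE CHASE. -/
theorem chase {G : Type} [Group G] {T : Type} [DecidableEq T] (tc : T → T → T) (t1 : T)
    (Rp : G → T → Prop) (z : G) (allT : List T)
    (R1 : Rp 1 t1) (Rm : ∀ g h N M, Rp g N → Rp h M → Rp (g * h) (tc N M))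
    (Rinj : ∀ g h N, Rp g N → Rp h N → g = h) (Rfun : ∀ g N M, Rp g N → Rp g M → N = M)
    (Rex : ∀ g, g * z = z * g → ∃ N ∈ allT, Rp g N)
    (fx : List G) (fxT : List T) (hfx : List.Forall₂ Rp fx fxT)
    (s : G) (N0 : T) (hs : Rp s N0) (hsz : s * z = z * s)
    (rels : List (List ℕ × ℕ × List ℕ))
    (h0 : ∀ r ∈ rels, relT tc t1 fxT N0 r = true)
    (hu : ∀ N ∈ allT, (∀ r ∈ rels, relT tc t1 fxT N r = true) → N = N0)
    (φ : MulAut G) (hz : φ z = z) (hφ : ∀ y ∈ fx, φ y = y) : φ s = s := by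
  have hcz : φ s * z = z * φ s := by
    have h1 := congrArg φ hsz
    rw [map_mul, map_mul, hz] at h1
    exact h1
  obtain ⟨N', hN', hRN'⟩ := Rex (φ s) hcz
  have key : ∀ (pat : List ℕ) (k : ℕ),
      (tpw tc t1 (evT tc t1 fxT N' pat) k = t1) ↔ (tpw tc t1 (evT tc t1 fxT N0 pat) k = t1) := by
    intro pat k
    have e1 := chase_one tc t1 Rp R1 Rm Rinj Rfun _ _
      (chase_ev tc t1 Rp R1 Rm fx fxT hfx s N0 hs pat) k
    have e2 := chase_one tc t1 Rp R1 Rm Rinj Rfun _ _
      (chase_ev tc t1 Rp R1 Rm fx fxT hfx (φ s) N' hRN' pat) k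
    rw [← e1, ← e2, ← chase_phi fx φ hφ s pat, ← map_pow]
    constructor
    · intro h
      apply φ.injective
      rw [h, map_one]
    · intro h
      rw [h, map_one]
  have hrel : ∀ r ∈ rels, relT tc t1 fxT N' r = true := by
    intro r hr
    have h1 : relT tc t1 fxT N' r = relT tc t1 fxT N0 r := by
      unfold relT
      simp only [key]
    rw [h1]
    exact h0 r hr
  have hN : N' = N0 := hu N' hN' hrel
  rw [hN] at hRN'
  exact Rinj _ _ _ hRN' hs

end Cfsg.Agent.Lib.Helper76.HeOCHASE
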