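import Cfsg.Agent.Lib.Helper15.BG13CDefs
import Cfsg.Agent.Lib.Helper15.BG10Asm
import Cfsg.Agent.Lib.Helper78.BG12P16D

/-!
# B&G Corollary 13.3(b) (row S1428), piece C-FRAT3 (for helper15)

`H = H_β N_H(T)` for a Sylow `q`-subgroup `T` of `H'`, `q ∉ β(H)` (adapted from
`Cfsg.Agent.Lib.Helper78.BG12.le_betaCore_sup_normalizer`).
-/

set_option autoImplicit false

open Cfsg Cfsg.Agent.Lib.Helper32 Cfsg.Agent.Lib.Helper32.BG10 Cfsg.Agent.Lib.Helper3.BG12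

namespace Cfsg.Agent.Lib.Helper15.BG13C

universe u

variable {G : Type u} [Group G] [Finite G]

theorem frat3 : Frat3Stmt G := by
  intro hG M hM q _ hqβ S hSN'
  classical
  have hqp : q.Prime := Fact.out
  have hUT := ut_of hG
  have h14 := Cfsg.Agent.Lib.Helper15.BG10.bg10_11 hG (Cfsg.Agent.Lib.Helper32.BG10.ut_of hG)
    (Cfsg.Agent.Lib.Helper32.BG10.sigDer_of hG) (Cfsg.Agent.Lib.Helper32.BG10.h7_of hG) M hM
  have hB_def : piCoreOf (beta M) M = (piCore (beta M) ↥M).map M.subtype := rfl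
  have hN_def : sigmaCore M = (piCore (sigma M) ↥M).map M.subtype := rfl
  have hBM : piCoreOf (beta M) M ≤ M := by
    rw [hB_def]
    exact Subgroup.map_subtype_le _
  have hMB : M ≤ Subgroup.normalizer ((piCoreOf (beta M) M : Subgroup G) : Set G) :=
    le_normalizer_map_subtype M (piCore (beta M) ↥M)
  obtain ⟨hBhall, -, ⟨H, hHhall, hHnil⟩, -, -⟩ := h14
  have : Group.IsNilpotent ↥H := hHnil
  have hβσ : beta M ⊆ sigma M := fun p hp => alpha_sub_sigma hG hUT hM hp.1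
  have hNM : ⁅M, M⁆ ≤ M := by
    rw [Subgroup.commutator_le]
    intro a ha b hb
    rw [commutatorElement_def]
    exact M.mul_mem (M.mul_mem (M.mul_mem ha hb) (M.inv_mem ha)) (M.inv_mem hb)
  have hMN : M ≤ Subgroup.normalizer ((⁅M, M⁆ : Subgroup G) : Set G) :=
    Cfsg.Agent.Lib.Helper3.BG13.le_normalizer_commutator M
  have hBσ : piCoreOf (beta M) M ≤ sigmaCore M := by
    rw [hB_def, hN_def]
    refine Subgroup.map_mono (le_sSup ⟨piCore_normal _ _, fun p hp hd => ?_⟩)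
    exact hβσ (Cfsg.Agent.Lib.Helper66.isPi_piCore (G := ↥M) (beta M) p hp hd)
  have hBN : piCoreOf (beta M) M ≤ ⁅M, M⁆ :=
    hBσ.trans (Cfsg.Agent.Lib.Helper3.BG12S.sigmaCore_le_comm hG hM)
  have hHN : H ≤ ⁅M, M⁆ := hHhall.1
  -- cardinalities
  have hab := Cfsg.Agent.Lib.Helper78.BG12.card_mul_relIndex' hBN
  have hcd := Cfsg.Agent.Lib.Helper78.BG12.card_mul_relIndex' hHN
  have hBpi : ∀ p : ℕ, p.Prime → p ∣ Nat.card ↥(piCoreOf (beta M) M) → p ∈ beta M :=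
    hBhall.2.1
  have hbnot : ∀ p : ℕ, p.Prime → p ∈ beta M →
      ¬ p ∣ (piCoreOf (beta M) M).relIndex ⁅M, M⁆ := by
    intro p hp hpβ hdvd
    apply hBhall.2.2 p hp hpβ
    rw [← Subgroup.relIndex_mul_relIndex _ _ _ hBN hNM]
    exact Dvd.dvd.mul_right hdvd _
  have hHpi : ∀ p : ℕ, p.Prime → p ∣ Nat.card ↥H → p ∉ beta M := fun p hp hd =>
    (hHhall.2.1 p hp hd).2
  have hdnot : ∀ p : ℕ, p.Prime → p ∉ beta M → ¬ p ∣ H.relIndex ⁅M, M⁆ :=
    fun p hp hpβ => hHhall.2.2 p hp ⟨hp, hpβ⟩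
  have hcop_ac : (Nat.card ↥(piCoreOf (beta M) M)).Coprime (Nat.card ↥H) := by
    by_contra hcon
    obtain ⟨p, hp, h1, h2⟩ := Nat.Prime.not_coprime_iff_dvd.mp hcon
    exact hHpi p hp h2 (hBpi p hp h1)
  have hcop_db : (H.relIndex ⁅M, M⁆).Coprime
      ((piCoreOf (beta M) M).relIndex ⁅M, M⁆) := by
    by_contra hcon
    obtain ⟨p, hp, h1, h2⟩ := Nat.Prime.not_coprime_iff_dvd.mp hcon
    by_cases hpβ : p ∈ beta M
    · exact hbnot p hp hpβ h2
    · exact hdnot p hp hpβ h1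
  have had : Nat.card ↥(piCoreOf (beta M) M) = H.relIndex ⁅M, M⁆ := by
    apply Nat.dvd_antisymm
    · apply hcop_ac.dvd_of_dvd_mul_left
      rw [hcd, ← hab]
      exact Dvd.intro _ rfl
    · apply hcop_db.dvd_of_dvd_mul_right
      rw [hab, ← hcd]
      exact Dvd.intro_left _ rfl
  have hprod : Nat.card ↥(piCoreOf (beta M) M) * Nat.card ↥H = Nat.card ↥(⁅M, M⁆ : Subgroup G) := by
    rw [← hcd, had, mul_comm]
  -- every element of `M'` is a product `b * h`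
  have hdecomp : ∀ n ∈ ⁅M, M⁆, ∃ b ∈ piCoreOf (beta M) M, ∃ h ∈ H, n = b * h := by
    have hc1 : Nat.card ↥((piCoreOf (beta M) M).subgroupOf ⁅M, M⁆) =
        Nat.card ↥(piCoreOf (beta M) M) :=
      Nat.card_congr (Subgroup.subgroupOfEquivOfLe hBN).toEquiv
    have hc2 : Nat.card ↥(H.subgroupOf ⁅M, M⁆) = Nat.card ↥H :=
      Nat.card_congr (Subgroup.subgroupOfEquivOfLe hHN).toEquiv
    have hcompl : Subgroup.IsComplement' ((piCoreOf (beta M) M).subgroupOf ⁅M, M⁆)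
        (H.subgroupOf ⁅M, M⁆) := by
      apply Subgroup.isComplement'_of_coprime
      · rw [hc1, hc2]
        exact hprod
      · rw [hc1, hc2]
        exact hcop_ac
    intro n hn
    obtain ⟨⟨b, h⟩, hbh⟩ := hcompl.2 ⟨n, hn⟩
    refine ⟨((b : ↥(⁅M, M⁆ : Subgroup G)) : G), Subgroup.mem_subgroupOf.mp b.2,
      ((h : ↥(⁅M, M⁆ : Subgroup G)) : G), Subgroup.mem_subgroupOf.mp h.2, ?_⟩
    have h5 := congrArg Subtype.val hbh
    exact h5.symm
  -- the Sylow `q`-subgroup of `H`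
  obtain ⟨S₀, hS₀⟩ := sylSet_nonempty q H
  have hS₀N : S₀ ∈ sylSet q ⁅M, M⁆ :=
    Cfsg.Agent.Lib.Helper78.BG12.sylSet_of_not_dvd hHN (hdnot q hqp hqβ) hS₀
  have hHS₀ : H ≤ Subgroup.normalizer (S₀ : Set G) := by
    obtain ⟨P₀, hP₀⟩ := exists_sylow_of_mem_sylSet hS₀
    have hP₀n : (P₀ : Subgroup ↥H).Normal := inferInstance
    rw [← hP₀]
    exact le_normalizer_map_subtype H (P₀ : Subgroup ↥H)
  have key : ∀ R ∈ sylSet q ⁅M, M⁆, ∃ b ∈ piCoreOf (beta M) M, cj b S₀ = R := by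
    intro R hR
    obtain ⟨n, hn, hnR⟩ := sylSet_conj hS₀N hR
    obtain ⟨b, hb, h, hh, rfl⟩ := hdecomp n hn
    refine ⟨b, hb, ?_⟩
    rw [← hnR, cj_mul, cj_eq_self_iff.mpr (hHS₀ hh)]
  have hTD : piCoreOf (beta M) M ⊔ S₀ ≤ ⁅M, M⁆ := sup_le hBN (hS₀.1.trans hHN)
  have hTM : piCoreOf (beta M) M ⊔ S₀ ≤ M := hTD.trans hNM
  have hcjT : ∀ b ∈ piCoreOf (beta M) M, cj b S₀ ≤ piCoreOf (beta M) M ⊔ S₀ := by
    intro b hb x hx
    rw [mem_cj] at hx
    have h1 : x = b * (b⁻¹ * x * b) * b⁻¹ := by group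
    rw [h1]
    exact Subgroup.mul_mem _ (Subgroup.mul_mem _ (Subgroup.mem_sup_left hb)
      (Subgroup.mem_sup_right hx)) (Subgroup.mem_sup_left (Subgroup.inv_mem _ hb))
  have hMT : M ≤ Subgroup.normalizer ((piCoreOf (beta M) M ⊔ S₀ : Subgroup G) : Set G) := by
    intro m hm
    rw [← cj_eq_self_iff]
    refine Subgroup.eq_of_le_of_card_ge ?_ (le_of_eq (card_cj m _).symm)
    have h1 : cj m (piCoreOf (beta M) M ⊔ S₀) = cj m (piCoreOf (beta M) M) ⊔ cj m S₀ :=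
      Subgroup.map_sup _ _ _
    rw [h1, cj_eq_self_iff.mpr (hMB hm)]
    obtain ⟨b, hb, hbS⟩ := key (cj m S₀) (cj_mem_sylSet (hMN hm) hS₀N)
    rw [← hbS]
    exact sup_le le_sup_left (hcjT b hb)
  obtain ⟨b', hb', hbS⟩ := key S hSN'
  have hST : S ≤ piCoreOf (beta M) M ⊔ S₀ := by
    rw [← hbS]
    exact hcjT b' hb'
  have hS_T : S ∈ sylSet q (piCoreOf (beta M) M ⊔ S₀) :=
    Cfsg.Agent.Lib.Helper78.BG12.sylSet_of_le hSN' hST hTD
  have hF := Cfsg.Agent.Lib.Helper78.BG12.frattini_sylSet hTM hMT hS_T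
  have hSle : S ≤ M ⊓ Subgroup.normalizer (S : Set G) :=
    le_inf (hSN'.1.trans hNM) Subgroup.le_normalizer
  have hT_le : piCoreOf (beta M) M ⊔ S₀ ≤
      piCoreOf (beta M) M ⊔ (M ⊓ Subgroup.normalizer (S : Set G)) := by
    refine sup_le le_sup_left ?_
    intro x hx
    have h1 : b' * x * b'⁻¹ ∈ S := by
      rw [← hbS, mem_cj]
      have h2 : b'⁻¹ * (b' * x * b'⁻¹) * b' = x := by group
      rw [h2]
      exact hx
    have h3 : x = b'⁻¹ * (b' * x * b'⁻¹) * b' := by group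
    rw [h3]
    exact Subgroup.mul_mem _ (Subgroup.mul_mem _
      (Subgroup.mem_sup_left (Subgroup.inv_mem _ hb'))
      (Subgroup.mem_sup_right (hSle h1))) (Subgroup.mem_sup_left hb')
  exact hF.trans (sup_le hT_le le_sup_right)

end Cfsg.Agent.Lib.Helper15.BG13C
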