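import Mathlib
import Cfsg.Agent.Lib.Helper76.N22Count

/-!
# Cyclic Sylow subgroups with abelian `p'`-subgroups: general lemmas
(helper76, for S4016)
-/

set_option autoImplicit false
set_option linter.unusedSectionVars false
set_option linter.unusedVariables false

namespace Cfsg.Agent.Lib.Helper76.CS

open Subgroup

section basic

variable {G : Type*} [Group G]

theorem eq_one_of_pow_coprime {x : G} {a b : ℕ} (h : a.Coprime b) (ha : x ^ a = 1)
    (hb : x ^ b = 1) : x = 1 := by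
  rw [← orderOf_eq_one_iff]
  exact Nat.eq_one_of_dvd_coprimes h (orderOf_dvd_of_pow_eq_one ha) (orderOf_dvd_of_pow_eq_one hb)

/-- a cyclic subgroup has a generator -/
theorem cyc_gen (P : Subgroup G) [IsCyclic P] : ∃ h₀ ∈ P, ∀ h ∈ P, ∃ i : ℤ, h₀ ^ i = h := by
  obtain ⟨g, hg⟩ := IsCyclic.exists_zpow_surjective (G := P)
  refine ⟨g, g.2, fun h hh => ?_⟩
  obtain ⟨i, hi⟩ := hg ⟨h, hh⟩
  exact ⟨i, by simpa using congrArg Subtype.val hi⟩

theorem cyc_comm (P : Subgroup G) [IsCyclic P] {a b : G} (ha : a ∈ P) (hb : b ∈ P) :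
    a * b = b * a := by
  obtain ⟨g, hg, hall⟩ := cyc_gen P
  obtain ⟨i, rfl⟩ := hall a ha
  obtain ⟨j, rfl⟩ := hall b hb
  rw [← zpow_add, ← zpow_add, add_comm]

theorem exists_zpow_conj (P : Subgroup G) [IsCyclic P] {k : G}
    (hk : ∀ h ∈ P, k * h * k⁻¹ ∈ P) : ∃ m : ℤ, ∀ h ∈ P, k * h * k⁻¹ = h ^ m := by
  obtain ⟨g, hg, hall⟩ := cyc_gen P
  obtain ⟨m, hm⟩ := hall _ (hk g hg)
  refine ⟨m, fun h hh => ?_⟩
  obtain ⟨i, rfl⟩ := hall h hh
  rw [← conj_zpow, ← hm, ← zpow_mul, ← zpow_mul, mul_comm]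

theorem mem_normalizer_of_conj_mem [Finite G] (H : Subgroup G) {g : G}
    (hg : ∀ h ∈ H, g * h * g⁻¹ ∈ H) : g ∈ normalizer (H : Set G) := by
  rw [Subgroup.mem_normalizer_iff]
  intro h
  refine ⟨hg h, fun hh => ?_⟩
  let f : H → H := fun x => ⟨g * x * g⁻¹, hg x x.2⟩
  have hf : Function.Injective f := by
    intro a b hab
    have := congrArg Subtype.val hab
    simp only [f] at this
    exact Subtype.ext (by simpa using this)
  obtain ⟨x, hx⟩ := Finite.surjective_of_injective hf ⟨g * h * g⁻¹, hh⟩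
  have h2 : g * x * g⁻¹ = g * h * g⁻¹ := congrArg Subtype.val hx
  have h3 : (x : G) = h := by simpa using h2
  rw [← h3]; exact x.2

theorem conj_mem_of_mem_normalizer {H : Subgroup G} {g : G} (hg : g ∈ normalizer (H : Set G))
    {h : G} (hh : h ∈ H) : g * h * g⁻¹ ∈ H :=
  (Subgroup.mem_normalizer_iff.mp hg h).mp hh

theorem conj_inv_mem_of_mem_normalizer {H : Subgroup G} {g : G}
    (hg : g ∈ normalizer (H : Set G)) {h : G} (hh : h ∈ H) : g⁻¹ * h * g ∈ H := by
  have := conj_mem_of_mem_normalizer (inv_mem hg) hh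
  rwa [inv_inv] at this

/-- conjugation of a power -/
theorem conj_pow_eq (k h : G) (n : ℕ) : k * h ^ n * k⁻¹ = (k * h * k⁻¹) ^ n :=
  (conj_pow).symm

/-- **coprime action on a cyclic `p`-group**: a `p'`-element normalizing a cyclic `p`-group and
fixing a nontrivial element centralizes it -/
theorem cent_of_fix {p : ℕ} [hp : Fact p.Prime] (P : Subgroup G) [IsCyclic P]
    (hP : IsPGroup p P) {k : G} (hk : ∀ h ∈ P, k * h * k⁻¹ ∈ P) {r : ℕ} (hr : r.Coprime p)
    (hkr : k ^ r = 1) {u : G} (hu : u ∈ P) (hu1 : u ≠ 1) (hfix : k * u * k⁻¹ = u) :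
    ∀ h ∈ P, k * h * k⁻¹ = h := by
  obtain ⟨m, hm⟩ := exists_zpow_conj P hk
  have hpm : (p : ℤ) ∣ m - 1 := by
    have h1 : u ^ (m - 1) = 1 := by
      rw [zpow_sub, zpow_one, ← hm u hu, hfix, mul_inv_cancel]
    have h2 := (orderOf_dvd_iff_zpow_eq_one).mpr h1
    have h3 : p ∣ orderOf u := by
      obtain ⟨j, hj⟩ := hP ⟨u, hu⟩
      have hj' : u ^ p ^ j = 1 := by simpa using congrArg Subtype.val hj
      obtain ⟨i, hi, hi2⟩ := (Nat.dvd_prime_pow hp.out).mp (orderOf_dvd_of_pow_eq_one hj')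
      rcases Nat.eq_zero_or_pos i with h0 | h0
      · subst h0; rw [pow_zero, orderOf_eq_one_iff] at hi2; exact absurd hi2 hu1
      · rw [hi2]; exact dvd_pow_self p h0.ne'
    exact (Int.natCast_dvd_natCast.mpr h3).trans h2
  have claim1 : ∀ h ∈ P, h ^ p = 1 → k * h * k⁻¹ = h := by
    intro h hh hhp
    obtain ⟨c, hc⟩ := hpm
    have : m = p * c + 1 := by omega
    rw [hm h hh, this, zpow_add, zpow_one, zpow_mul, zpow_natCast, hhp, one_zpow, one_mul]
  have claim2 : ∀ n : ℕ, ∀ h ∈ P, h ^ p ^ n = 1 → k * h * k⁻¹ = h := by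
    intro n
    induction n with
    | zero => intro h hh h1; rw [pow_zero, pow_one] at h1; subst h1; simp
    | succ n ih =>
      intro h hh h1
      set z := h⁻¹ * (k * h * k⁻¹) with hz
      have hzP : z ∈ P := P.mul_mem (P.inv_mem hh) (hk h hh)
      have hzp : z ^ p = 1 := by
        have hc : Commute h⁻¹ (k * h * k⁻¹) := cyc_comm P (P.inv_mem hh) (hk h hh)
        rw [hz, hc.mul_pow, ← conj_pow_eq,
          ih (h ^ p) (P.pow_mem hh p) (by rw [← pow_mul, ← pow_succ']; exact h1), inv_pow,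
          inv_mul_cancel]
      have hzk : k * z * k⁻¹ = z := claim1 z hzP hzp
      have hkh : k * h * k⁻¹ = h * z := by rw [hz]; group
      have hj : ∀ j : ℕ, k ^ j * h * (k ^ j)⁻¹ = h * z ^ j := by
        intro j
        induction j with
        | zero => simp
        | succ j ihj =>
          have e1 : k ^ (j + 1) * h * (k ^ (j + 1))⁻¹ = k * (k ^ j * h * (k ^ j)⁻¹) * k⁻¹ := by
            rw [pow_succ']; group
          rw [e1, ihj]
          have e2 : k * (h * z ^ j) * k⁻¹ = (k * h * k⁻¹) * (k * z * k⁻¹) ^ j := by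
            rw [← conj_pow_eq]; group
          rw [e2, hzk, hkh, mul_assoc, ← pow_succ']
      have hzr : z ^ r = 1 := by
        have := hj r
        rw [hkr] at this
        simpa using this.symm
      have hz1 : z = 1 := eq_one_of_pow_coprime hr hzr hzp
      rw [hkh, hz1, mul_one]
  intro h hh
  obtain ⟨j, hj⟩ := hP ⟨h, hh⟩
  exact claim2 j h hh (by simpa using congrArg Subtype.val hj)

/-- `p`-part and `p'`-part of an element -/
theorem exists_parts [Finite G] (p : ℕ) [hp : Fact p.Prime] (g : G) :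
    ∃ a b : G, a ∈ zpowers g ∧ b ∈ zpowers g ∧ g = a * b ∧ (∃ j : ℕ, a ^ p ^ j = 1) ∧
      (orderOf b).Coprime p := by
  obtain ⟨j, m, hm, hn⟩ :=
    Nat.exists_eq_pow_mul_and_not_dvd (orderOf_pos g).ne' p hp.out.ne_one
  have hcop : Nat.Coprime (p ^ j) m :=
    Nat.Coprime.pow_left j ((Nat.Prime.coprime_iff_not_dvd hp.out).mpr hm)
  have hb := Nat.gcd_eq_gcd_ab (p ^ j) m
  rw [hcop] at hb
  set s := Nat.gcdA (p ^ j) m
  set t := Nat.gcdB (p ^ j) m
  refine ⟨g ^ ((m : ℤ) * t), g ^ (((p ^ j : ℕ) : ℤ) * s), zpow_mem (mem_zpowers g) _,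
    zpow_mem (mem_zpowers g) _, ?_, ⟨j, ?_⟩, ?_⟩
  · rw [← zpow_add, add_comm, ← hb]; simp
  · rw [← zpow_natCast, ← zpow_mul]
    have : (m : ℤ) * t * ((p ^ j : ℕ) : ℤ) = ((orderOf g : ℕ) : ℤ) * t := by
      rw [hn]; push_cast; ring
    rw [this, zpow_mul, zpow_natCast, pow_orderOf_eq_one, one_zpow]
  · have h1 : (g ^ (((p ^ j : ℕ) : ℤ) * s)) ^ m = 1 := by
      rw [← zpow_natCast, ← zpow_mul]
      have : ((p ^ j : ℕ) : ℤ) * s * (m : ℤ) = ((orderOf g : ℕ) : ℤ) * s := by
        rw [hn]; push_cast; ring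
      rw [this, zpow_mul, zpow_natCast, pow_orderOf_eq_one, one_zpow]
    exact Nat.Coprime.coprime_dvd_left (orderOf_dvd_of_pow_eq_one h1)
      ((Nat.Prime.coprime_iff_not_dvd hp.out).mpr hm).symm

/-- a `p`-element normalizing a Sylow `p`-subgroup lies in it -/
theorem mem_sylow_of_normalizer {p : ℕ} [hp : Fact p.Prime] (P : Sylow p G) {x : G}
    (hx : x ∈ normalizer ((P : Subgroup G) : Set G)) {j : ℕ} (hxp : x ^ p ^ j = 1) :
    x ∈ P := by
  have h1 : IsPGroup p (zpowers x) := N22.isPGroup_zpowers p x j hxp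
  have h2 : zpowers x ≤ normalizer ((P : Subgroup G) : Set G) := by
    rw [zpowers_le]; exact hx
  have h3 := IsPGroup.to_sup_of_normal_right' h1 P.isPGroup' h2
  have h4 := P.is_maximal' h3 le_sup_right
  have h5 : zpowers x ≤ (P : Subgroup G) := by rw [← h4]; exact le_sup_left
  exact h5 (mem_zpowers x)

/-- elements of a `p`-group are `p`-elements -/
theorem pow_eq_one_of_isPGroup {p : ℕ} {H : Subgroup G} (hH : IsPGroup p H) {x : G}
    (hx : x ∈ H) : ∃ j : ℕ, x ^ p ^ j = 1 := by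
  obtain ⟨j, hj⟩ := hH ⟨x, hx⟩
  exact ⟨j, by simpa using congrArg Subtype.val hj⟩

/-- elements of a subgroup of order prime to `p` are `p'`-elements -/
theorem coprime_orderOf_of_mem [Finite G] {p : ℕ} [hp : Fact p.Prime] {H : Subgroup G}
    (hH : ¬ p ∣ Nat.card H) {x : G} (hx : x ∈ H) : (orderOf x).Coprime p := by
  have h1 : orderOf x ∣ Nat.card H := by
    have := orderOf_dvd_natCard (⟨x, hx⟩ : H)
    rwa [Subgroup.orderOf_mk] at this
  exact Nat.Coprime.coprime_dvd_left h1 ((Nat.Prime.coprime_iff_not_dvd hp.out).mpr hH).symm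

/-- an element that is both a `p`-element and a `p'`-element is trivial -/
theorem eq_one_of_p_of_p' {p : ℕ} {x : G} {j : ℕ} (hxp : x ^ p ^ j = 1)
    (hx : (orderOf x).Coprime p) : x = 1 :=
  eq_one_of_pow_coprime (Nat.Coprime.pow_right j hx) (pow_orderOf_eq_one x) hxp

theorem card_mul_relIndex' {H K : Subgroup G} (h : H ≤ K) :
    Nat.card H * H.relIndex K = Nat.card K := by
  have := Subgroup.relIndex_mul_relIndex (H := (⊥ : Subgroup G)) (K := H) (L := K) bot_le h
  rwa [Subgroup.relIndex_bot_left, Subgroup.relIndex_bot_left] at this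

theorem relIndex_sup_of_le_normalizer' {H K : Subgroup G}
    (hLE : H ≤ Subgroup.normalizer (K : Set G)) : K.relIndex (H ⊔ K) = K.relIndex H := by
  have := Subgroup.normal_subgroupOf_of_le_normalizer hLE
  have := Subgroup.normal_subgroupOf_sup_of_le_normalizer hLE
  exact Nat.card_congr
    (QuotientGroup.quotientInfEquivProdNormalizerQuotient H K hLE).toEquiv.symm

theorem card_sup_eq {H K : Subgroup G} (hLE : H ≤ Subgroup.normalizer (K : Set G)) :
    Nat.card (H ⊔ K : Subgroup G) = Nat.card K * K.relIndex H := by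
  rw [← relIndex_sup_of_le_normalizer' hLE]
  exact (card_mul_relIndex' le_sup_right).symm

theorem card_sup_dvd {H K : Subgroup G} (hLE : H ≤ Subgroup.normalizer (K : Set G)) :
    Nat.card (H ⊔ K : Subgroup G) ∣ Nat.card K * Nat.card H := by
  rw [card_sup_eq hLE]
  exact Nat.mul_dvd_mul_left _ (Subgroup.relIndex_dvd_card K H)

theorem card_sup_of_disjoint {H K : Subgroup G} (hLE : H ≤ Subgroup.normalizer (K : Set G))
    (hd : H ⊓ K = ⊥) : Nat.card (H ⊔ K : Subgroup G) = Nat.card K * Nat.card H := by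
  rw [card_sup_eq hLE, ← Subgroup.inf_relIndex_right, inf_comm, hd, Subgroup.relIndex_bot_left]

theorem comm_of_isMulCommutative {K : Subgroup G} (h : IsMulCommutative K) {a b : G}
    (ha : a ∈ K) (hb : b ∈ K) : a * b = b * a :=
  congrArg Subtype.val (h.is_comm.comm ⟨a, ha⟩ ⟨b, hb⟩)

/-- a `p'`-element normalizing a `p'`-subgroup centralizes it, when `p'`-subgroups are abelian -/
theorem comm_of_p' [Finite G] {p : ℕ} [hp : Fact p.Prime]
    (hab : ∀ H : Subgroup G, ¬ p ∣ Nat.card H → IsMulCommutative H) {W : Subgroup G}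
    (hW : ¬ p ∣ Nat.card W) {x : G} (hx : x ∈ normalizer (W : Set G))
    (hxo : (orderOf x).Coprime p) : ∀ w ∈ W, x * w = w * x := by
  have h1 : zpowers x ≤ normalizer (W : Set G) := by rw [zpowers_le]; exact hx
  have h2 := card_sup_dvd h1
  have h3 : ¬ p ∣ Nat.card (zpowers x ⊔ W : Subgroup G) := by
    intro h
    have h4 := h.trans h2
    rcases (Nat.Prime.dvd_mul hp.out).mp h4 with h5 | h5
    · exact hW h5
    · rw [Nat.card_zpowers] at h5
      have := Nat.Coprime.eq_one_of_dvd hxo.symm h5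
      exact hp.out.ne_one this
  intro w hw
  exact comm_of_isMulCommutative (hab _ h3) (le_sup_left (a := zpowers x) (mem_zpowers x))
    (le_sup_right (a := zpowers x) hw)

open scoped IsMulCommutative in
/-- transfer into an abelian Sylow subgroup: an element of `S ∩ G'` central in `N(S)` is trivial -/
theorem lemmaT [Finite G] {q : ℕ} [hq : Fact q.Prime] (S : Sylow q G)
    [hS : IsMulCommutative S] {x : G} (hx : x ∈ S)
    (hxN : ∀ n ∈ normalizer ((S : Subgroup G) : Set G), n * x = x * n)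
    (hxc : x ∈ commutator G) : x = 1 := by
  have key : ∀ (k : ℕ) (g₀ : G), g₀⁻¹ * x ^ k * g₀ ∈ (S : Subgroup G) →
      g₀⁻¹ * x ^ k * g₀ = x ^ k := by
    intro k g₀ h
    obtain ⟨n, hn, h2⟩ := S.conj_eq_normalizer_conj_of_mem (x ^ k) g₀ (pow_mem hx k) h
    rw [h2]
    have h3 : n * x ^ k = x ^ k * n := ((Commute.pow_right (hxN n hn) k : Commute n (x ^ k))).eq
    rw [mul_assoc, ← h3, inv_mul_cancel_left]
  have h1 := MonoidHom.transfer_eq_pow (MonoidHom.id (S : Subgroup G)) x key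
  have h2 : MonoidHom.transfer (MonoidHom.id (S : Subgroup G)) x = 1 :=
    MonoidHom.mem_ker.mp (Abelianization.commutator_subset_ker _ hxc)
  rw [h2] at h1
  have h3 : x ^ (S : Subgroup G).index = 1 := by
    have := congrArg Subtype.val h1
    simpa using this.symm
  obtain ⟨j, hj⟩ := pow_eq_one_of_isPGroup S.isPGroup' hx
  have hcop : Nat.Coprime (S : Subgroup G).index (q ^ j) :=
    Nat.Coprime.pow_right j ((Nat.Prime.coprime_iff_not_dvd hq.out).mpr S.not_dvd_index).symm
  exact eq_one_of_pow_coprime hcop h3 hj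

/-- if all `p'`-elements of `N(Q)` centralize `Q`, then `N(Q)/C(Q)` is a `p`-group -/
theorem relIndex_cent_norm_pow [Finite G] {p : ℕ} [hp : Fact p.Prime] (Q : Subgroup G)
    (hb : ∀ x ∈ normalizer (Q : Set G), (orderOf x).Coprime p → x ∈ centralizer (Q : Set G)) :
    ∃ j : ℕ, (centralizer (Q : Set G)).relIndex (normalizer (Q : Set G)) = p ^ j := by
  rw [relIndex, ← Subgroup.normalizerMonoidHom_ker, Subgroup.index_ker]
  apply IsPGroup.iff_card.mp
  rintro ⟨_, n, rfl⟩
  obtain ⟨a, b, -, -, hab, ⟨j, hj⟩, hbo⟩ := exists_parts p n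
  refine ⟨j, Subtype.ext ?_⟩
  have hbk : b ∈ (normalizerMonoidHom Q).ker := by
    rw [Subgroup.normalizerMonoidHom_ker, mem_subgroupOf]
    exact hb b.1 b.2 (by rwa [Subgroup.orderOf_coe])
  show (normalizerMonoidHom Q n) ^ p ^ j = 1
  rw [hab, map_mul, MonoidHom.mem_ker.mp hbk, mul_one, ← map_pow, hj, map_one]

/-- if `N(Q)/C(Q)` is a `p`-group and no nontrivial element of `Q` is central in `N(Q)` then
`|Q| ≡ 1 (mod p)` -/
theorem card_modEq_one_of_fpf [Finite G] {p : ℕ} [hp : Fact p.Prime] (Q : Subgroup G)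
    (hb : ∀ x ∈ normalizer (Q : Set G), (orderOf x).Coprime p → x ∈ centralizer (Q : Set G))
    (hc : ∀ y ∈ Q, (∀ x ∈ normalizer (Q : Set G), x * y = y * x) → y = 1) :
    Nat.card Q ≡ 1 [MOD p] := by
  obtain ⟨j, hj⟩ := relIndex_cent_norm_pow Q hb
  set N := normalizer (Q : Set G) with hN
  obtain ⟨U₀⟩ := (Sylow.nonempty : Nonempty (Sylow p N))
  set U : Subgroup G := (U₀ : Subgroup N).map N.subtype with hU
  have hUp : IsPGroup p U := U₀.isPGroup'.map _
  have hUN : U ≤ N := Subgroup.map_subtype_le _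
  have hUi : ¬ p ∣ U.relIndex N := by
    have h1 : U.subgroupOf N = (U₀ : Subgroup N) :=
      comap_map_eq_self_of_injective N.subtype_injective _
    rw [relIndex, h1]
    exact U₀.not_dvd_index
  have hX : ∀ h ∈ U.map (ConjAct.toConjAct (G := G)).toMonoidHom, ∀ δ ∈ (Q : Set G),
      h • δ ∈ (Q : Set G) := by
    rintro _ ⟨u, hu, rfl⟩ δ hδ
    show ConjAct.toConjAct u • δ ∈ Q
    rw [ConjAct.toConjAct_smul]
    exact conj_mem_of_mem_normalizer (hUN hu) hδ
  have hm := N22.card_modEq_fixed (Γ := ConjAct G) (Ω := G) p _ (hUp.map _) _ hX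
  have h1 : ((Q : Set G)).ncard = Nat.card Q := (Nat.card_coe_set_eq _).symm
  have hset : {δ | δ ∈ (Q : Set G) ∧
      ∀ h ∈ U.map (ConjAct.toConjAct (G := G)).toMonoidHom, h • δ = δ} = {1} := by
    ext y
    simp only [Set.mem_ofPred_eq, Set.mem_singleton_iff]
    constructor
    · rintro ⟨hy, hfix⟩
      have hyU : ∀ u ∈ U, u * y = y * u := by
        intro u hu
        have h3 : ConjAct.toConjAct u • y = y := hfix _ ⟨u, hu, rfl⟩
        rw [ConjAct.toConjAct_smul] at h3
        calc u * y = u * y * u⁻¹ * u := by group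
          _ = y * u := by rw [h3]
      set S := N ⊓ centralizer ({y} : Set G) with hS
      have hUS : U ≤ S := fun u hu => ⟨hUN hu, by
        show u ∈ centralizer ({y} : Set G)
        rw [mem_centralizer_iff]; intro z hz; rw [Set.mem_singleton_iff] at hz; subst hz
        exact (hyU u hu).symm⟩
      have hCS : centralizer (Q : Set G) ≤ S := fun c hc =>
        ⟨centralizer_le_normalizer _ hc, centralizer_le (Set.singleton_subset_iff.mpr hy) hc⟩
      have h5 : S.relIndex N ∣ p ^ j := hj ▸ relIndex_dvd_of_le_left N hCS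
      have h6 : S.relIndex N ∣ U.relIndex N := relIndex_dvd_of_le_left N hUS
      have h7 : S.relIndex N = 1 := by
        obtain ⟨i, -, hi⟩ := (Nat.dvd_prime_pow hp.out).mp h5
        rcases Nat.eq_zero_or_pos i with h0 | h0
        · rw [hi, h0, pow_zero]
        · exfalso; apply hUi; rw [hi] at h6; exact (dvd_pow_self p h0.ne').trans h6
      have h8 : N ≤ S := relIndex_eq_one.mp h7
      apply hc y hy
      intro x hx
      have h9 : x ∈ centralizer ({y} : Set G) := (h8 hx).2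
      rw [mem_centralizer_iff] at h9
      exact (h9 y rfl).symm
    · rintro rfl
      exact ⟨Q.one_mem, fun h _ => smul_one h⟩
  rw [hset, h1, Set.ncard_singleton] at hm
  exact hm

/-- if every prime power part of `n` away from `p` is `≡ 1 (mod p)` then so is the `p'`-part -/
theorem ordCompl_modEq_one {n p : ℕ} (hp : p.Prime) (hn : n ≠ 0)
    (h : ∀ q : ℕ, q.Prime → q ≠ p → q ∣ n → q ^ n.factorization q ≡ 1 [MOD p]) :
    n / p ^ n.factorization p ≡ 1 [MOD p] := by
  set m := n / p ^ n.factorization p with hm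
  have hm0 : m ≠ 0 := (Nat.ordCompl_pos p hn).ne'
  have hprod := Nat.prod_factorization_pow_eq_self hm0
  rw [← hprod]
  unfold Finsupp.prod
  apply Finset.prod_induction _ (fun x => x ≡ 1 [MOD p])
  · intro a b ha hb; simpa using ha.mul hb
  · rfl
  · intro q hq
    rw [Nat.support_factorization] at hq
    have hqp : q.Prime := Nat.prime_of_mem_primeFactors hq
    have hqm : q ∣ m := Nat.dvd_of_mem_primeFactors hq
    have hqne : q ≠ p := by rintro rfl; exact Nat.not_dvd_ordCompl hp hn hqm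
    have hfac : m.factorization q = n.factorization q := by
      rw [hm, Nat.factorization_ordCompl, Finsupp.erase_ne hqne]
    rw [hfac]
    exact h q hqp hqne (hqm.trans (Nat.ordCompl_dvd n p))

/-- `N(P)/P` is abelian when `p'`-subgroups are abelian (Schur–Zassenhaus) -/
theorem norm_comm_mem [Finite G] {p : ℕ} [hp : Fact p.Prime] (P : Sylow p G)
    (hab : ∀ H : Subgroup G, ¬ p ∣ Nat.card H → IsMulCommutative H) :
    ∀ n₁ ∈ normalizer ((P : Subgroup G) : Set G),
      ∀ n₂ ∈ normalizer ((P : Subgroup G) : Set G), n₁ * n₂ * n₁⁻¹ * n₂⁻¹ ∈ P := by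
  set N := normalizer ((P : Subgroup G) : Set G) with hN
  set P' : Subgroup N := (P : Subgroup G).subgroupOf N with hP'
  have hnorm : P'.Normal := Subgroup.normal_in_normalizer
  have hidx : ¬ p ∣ P'.index := (P.subtype le_normalizer).not_dvd_index
  have hcop : Nat.Coprime (Nat.card P') P'.index := by
    have h1 : IsPGroup p P' := (P.subtype le_normalizer).isPGroup'
    obtain ⟨n, hn⟩ := IsPGroup.iff_card.mp h1
    rw [hn]
    exact Nat.Coprime.pow_left n ((Nat.Prime.coprime_iff_not_dvd hp.out).mpr hidx)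
  obtain ⟨K', hK'⟩ := Subgroup.exists_right_complement'_of_coprime hcop
  have hKcard : ¬ p ∣ Nat.card (K'.map N.subtype) := by
    rw [Subgroup.card_map_of_injective N.subtype_injective, ← hK'.symm.index_eq_card]
    exact hidx
  have hKc := hab _ hKcard
  have hKcomm : ∀ a ∈ K', ∀ b ∈ K', a * b = b * a := by
    intro a ha b hb
    apply Subtype.ext
    exact comm_of_isMulCommutative hKc (mem_map_of_mem _ ha) (mem_map_of_mem _ hb)
  have key : ∀ n₁ n₂ : N, n₁ * n₂ * n₁⁻¹ * n₂⁻¹ ∈ P' := by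
    intro n₁ n₂
    obtain ⟨⟨h₁, k₁⟩, e₁⟩ := hK'.2 n₁
    obtain ⟨⟨h₂, k₂⟩, e₂⟩ := hK'.2 n₂
    simp only at e₁ e₂
    rw [← QuotientGroup.eq_one_iff (N := P')]
    have hh₁ : ((h₁ : N) : N ⧸ P') = 1 := (QuotientGroup.eq_one_iff _).mpr h₁.2
    have hh₂ : ((h₂ : N) : N ⧸ P') = 1 := (QuotientGroup.eq_one_iff _).mpr h₂.2
    rw [← e₁, ← e₂]
    simp only [QuotientGroup.mk_mul, QuotientGroup.mk_inv, hh₁, hh₂, one_mul]
    rw [← QuotientGroup.mk_mul, hKcomm k₁ k₁.2 k₂ k₂.2, QuotientGroup.mk_mul]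
    group
  intro n₁ h₁ n₂ h₂
  have := key ⟨n₁, h₁⟩ ⟨n₂, h₂⟩
  rw [hP', mem_subgroupOf] at this
  exact this

/-- the dichotomy "normal `p`-complement or normal Sylow `p`-subgroup" for a subgroup `H`,
phrased with subgroups of `G` -/
def Dich (p : ℕ) (H : Subgroup G) : Prop :=
  (∃ W : Subgroup G, W ≤ H ∧ H ≤ normalizer (W : Set G) ∧ ¬ p ∣ Nat.card W ∧
      (∃ j : ℕ, Nat.card H = Nat.card W * p ^ j) ∧
      ∀ x ∈ H, (orderOf x).Coprime p → x ∈ W) ∨
  (∃ D : Subgroup G, D ≤ H ∧ H ≤ normalizer (D : Set G) ∧ IsPGroup p D ∧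
      ∀ x ∈ H, ∀ j : ℕ, x ^ p ^ j = 1 → x ∈ D)

theorem map_subtype_normal_le_normalizer [Finite G] (H : Subgroup G) (K : Subgroup H)
    [hK : K.Normal] : H ≤ normalizer ((K.map H.subtype : Subgroup G) : Set G) := by
  intro x hx
  apply mem_normalizer_of_conj_mem
  rintro _ ⟨n, hn, rfl⟩
  exact ⟨⟨x, hx⟩ * n * ⟨x, hx⟩⁻¹, hK.conj_mem n hn ⟨x, hx⟩, rfl⟩

theorem dich_of_subtype [Finite G] (p : ℕ) [hp : Fact p.Prime] (H : Subgroup G)
    (h : (∃ (S : Sylow p H) (N : Subgroup H), N.Normal ∧ N.IsComplement' (S : Subgroup H)) ∨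
      ∃ S : Sylow p H, (S : Subgroup H).Normal) : Dich p H := by
  rcases h with ⟨S, N', hN', hc⟩ | ⟨S, hS⟩
  · left
    refine ⟨N'.map H.subtype, Subgroup.map_subtype_le _,
      map_subtype_normal_le_normalizer H N', ?_, ?_, ?_⟩
    · rw [Subgroup.card_map_of_injective H.subtype_injective, ← hc.index_eq_card]
      exact S.not_dvd_index
    · obtain ⟨j, hj⟩ := IsPGroup.iff_card.mp S.isPGroup'
      refine ⟨j, ?_⟩
      rw [Subgroup.card_map_of_injective H.subtype_injective, ← hj]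
      exact hc.card_mul_card.symm
    · intro x hx hxo
      obtain ⟨j, hj⟩ := IsPGroup.iff_card.mp S.isPGroup'
      have h1 : (⟨x, hx⟩ : H) ^ N'.index ∈ N' := Subgroup.pow_index_mem N' _
      have h2 : N'.index = p ^ j := by rw [← hj]; exact hc.symm.index_eq_card
      have h3 : Nat.Coprime (p ^ j) (orderOf (⟨x, hx⟩ : H)) := by
        rw [Subgroup.orderOf_mk]; exact (Nat.Coprime.pow_right j hxo).symm
      obtain ⟨m, hm⟩ := exists_pow_eq_self_of_coprime h3
      rw [h2] at h1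
      have h4 : (⟨x, hx⟩ : H) ∈ N' := by rw [← hm]; exact pow_mem h1 m
      exact ⟨⟨x, hx⟩, h4, rfl⟩
  · right
    refine ⟨(S : Subgroup H).map H.subtype, Subgroup.map_subtype_le _,
      map_subtype_normal_le_normalizer H S, S.isPGroup'.map _, ?_⟩
    intro x hx j hj
    have h1 : (⟨x, hx⟩ : H) ∈ normalizer ((S : Subgroup H) : Set H) := by
      rw [normalizer_eq_top_iff.mpr hS]; exact mem_top _
    have h2 : (⟨x, hx⟩ : H) ^ p ^ j = 1 := Subtype.ext (by simpa using hj)
    exact ⟨⟨x, hx⟩, mem_sylow_of_normalizer S h1 h2, rfl⟩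

/-- cyclic Sylow subgroups are inherited by subgroups -/
theorem isCyclic_sylow_subtype {p : ℕ} [hp : Fact p.Prime]
    (hcyc : ∀ S : Sylow p G, IsCyclic S) (H : Subgroup G) (S' : Sylow p H) : IsCyclic S' := by
  obtain ⟨S, hS⟩ := (S'.isPGroup'.map H.subtype).exists_le_sylow
  have := hcyc S
  let f : (S' : Subgroup H) →* (S : Subgroup G) :=
    (H.subtype.comp (S' : Subgroup H).subtype).codRestrict (S : Subgroup G)
      (fun x => hS (mem_map_of_mem _ x.2))
  have hf : Function.Injective f := by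
    intro a b hab
    have h1 := congrArg Subtype.val hab
    exact Subtype.ext (Subtype.ext h1)
  exact isCyclic_of_injective f hf

/-- abelian `p'`-subgroups are inherited by subgroups -/
theorem hab_subtype {p : ℕ}
    (hab : ∀ H : Subgroup G, ¬ p ∣ Nat.card H → IsMulCommutative H) (H : Subgroup G)
    (K : Subgroup H) (hK : ¬ p ∣ Nat.card K) : IsMulCommutative K := by
  have h1 : ¬ p ∣ Nat.card (K.map H.subtype) := by
    rwa [Subgroup.card_map_of_injective H.subtype_injective]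
  have h2 := hab _ h1
  refine ⟨⟨fun a b => ?_⟩⟩
  apply Subtype.ext
  apply Subtype.ext
  exact comm_of_isMulCommutative h2 (mem_map_of_mem _ a.2) (mem_map_of_mem _ b.2)

/-- conjugate of a subgroup -/
def cj (g : G) (H : Subgroup G) : Subgroup G := H.map (MulAut.conj g).toMonoidHom

theorem mem_cj {g : G} {H : Subgroup G} {x : G} : x ∈ cj g H ↔ g⁻¹ * x * g ∈ H := by
  constructor
  · rintro ⟨y, hy, rfl⟩
    have : g⁻¹ * (MulAut.conj g).toMonoidHom y * g = y := by simp [MulAut.conj_apply]; group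
    rw [this]; exact hy
  · intro h
    refine ⟨g⁻¹ * x * g, h, ?_⟩
    simp [MulAut.conj_apply]; group

theorem conj_mem_cj {g : G} {H : Subgroup G} {x : G} (hx : x ∈ H) : g * x * g⁻¹ ∈ cj g H := by
  rw [mem_cj]
  have : g⁻¹ * (g * x * g⁻¹) * g = x := by group
  rw [this]; exact hx

theorem card_cj (g : G) (H : Subgroup G) : Nat.card (cj g H) = Nat.card H :=
  Subgroup.card_map_of_injective (MulAut.conj g).injective

theorem cj_ne_top {g : G} {H : Subgroup G} (h : H ≠ ⊤) : cj g H ≠ ⊤ := by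
  intro h2
  apply h
  rw [eq_top_iff]
  intro x _
  have h3 : g * x * g⁻¹ ∈ cj g H := by rw [h2]; exact mem_top _
  rw [mem_cj] at h3
  have : g⁻¹ * (g * x * g⁻¹) * g = x := by group
  rwa [this] at h3

theorem cj_le_of_le {g : G} {H K : Subgroup G} (h : H ≤ K) : cj g H ≤ cj g K :=
  Subgroup.map_mono h

theorem cj_normalizer_le [Finite G] {g : G} {H D : Subgroup G}
    (h : H ≤ normalizer (D : Set G)) : cj g H ≤ normalizer ((cj g D : Subgroup G) : Set G) := by
  intro x hx
  rw [mem_cj] at hx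
  apply mem_normalizer_of_conj_mem
  intro d hd
  rw [mem_cj] at hd ⊢
  have := conj_mem_of_mem_normalizer (h hx) hd
  have e : g⁻¹ * (x * d * x⁻¹) * g = g⁻¹ * x * g * (g⁻¹ * d * g) * (g⁻¹ * x * g)⁻¹ := by group
  rw [e]; exact this

theorem mem_smul_sylow {p : ℕ} (g x : G) (Q : Sylow p G) :
    x ∈ ((g • Q : Sylow p G) : Subgroup G) ↔ g⁻¹ * x * g ∈ (Q : Subgroup G) := by
  rw [Sylow.coe_subgroup_smul, Subgroup.mem_pointwise_smul_iff_inv_smul_mem, MulAut.smul_def,
    ← map_inv, MulAut.conj_apply, inv_inv]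

/-- every `p`-subgroup is conjugate into a given Sylow `p`-subgroup -/
theorem exists_conj_le_sylow [Finite G] {p : ℕ} [hp : Fact p.Prime] (P : Sylow p G)
    {D : Subgroup G} (hD : IsPGroup p D) : ∃ g : G, ∀ x ∈ D, g⁻¹ * x * g ∈ P := by
  obtain ⟨Q, hQ⟩ := hD.exists_le_sylow
  obtain ⟨g, hg⟩ := MulAction.exists_smul_eq G P Q
  refine ⟨g, fun x hx => ?_⟩
  exact (mem_smul_sylow g x P).mp (by rw [hg]; exact hQ hx)

end basic

end Cfsg.Agent.Lib.Helper76.CS
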