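import Mathlib
import Cfsg.Agent.Lib.Helper76.CycSylA

/-!
# Cyclic Sylow subgroups with abelian `p'`-subgroups: the minimal counterexample
(helper76, for S4016)
-/

set_option autoImplicit false
set_option linter.unusedSectionVars false
set_option linter.unusedVariables false

namespace Cfsg.Agent.Lib.Helper76.CS

open Subgroup

section general

variable {G : Type*} [Group G]

theorem orderOf_conj' (g x : G) : orderOf (g * x * g⁻¹) = orderOf x := by
  rw [← MulAut.conj_apply, MulEquiv.orderOf_eq]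

theorem exists_mem_orderOf [Finite G] (H : Subgroup G) (q : ℕ) [Fact q.Prime]
    (hq : q ∣ Nat.card H) : ∃ x ∈ H, orderOf x = q := by
  obtain ⟨x, hx⟩ := exists_prime_orderOf_dvd_card' (G := H) q hq
  exact ⟨x, x.2, by rw [Subgroup.orderOf_coe]; exact hx⟩

theorem not_dvd_card_sylow' [Finite G] {p q : ℕ} [hp : Fact p.Prime] [hq : Fact q.Prime]
    (hqp : q ≠ p) (S : Sylow q G) : ¬ p ∣ Nat.card S := by
  obtain ⟨n, hn⟩ := IsPGroup.iff_card.mp S.isPGroup'
  rw [hn]
  intro h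
  exact hqp ((Nat.prime_dvd_prime_iff_eq hp.out hq.out).mp (hp.out.dvd_of_dvd_pow h)).symm

/-- a subgroup `L = W P` with `P` centralizing the `p'`-group `W` normalizes `P` -/
theorem le_normalizer_of_split [Finite G] {p : ℕ} [hp : Fact p.Prime] (P : Sylow p G)
    {W L : Subgroup G} (hW : ¬ p ∣ Nat.card W) (hWL : W ≤ L) (hPL : (P : Subgroup G) ≤ L)
    (hcent : ∀ h ∈ P, ∀ w ∈ W, h * w = w * h) {j : ℕ}
    (hL : Nat.card L = Nat.card W * p ^ j) :
    L ≤ normalizer ((P : Subgroup G) : Set G) := by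
  have hWN : W ≤ normalizer ((P : Subgroup G) : Set G) := by
    intro w hw
    apply mem_normalizer_of_conj_mem
    intro h hh
    have : w * h * w⁻¹ = h := by rw [← hcent h hh w hw]; group
    rw [this]; exact hh
  obtain ⟨n, hn⟩ := IsPGroup.iff_card.mp P.isPGroup'
  have hcop : Nat.Coprime (Nat.card W) (Nat.card (P : Subgroup G)) := by
    rw [hn]
    exact (Nat.Coprime.pow_left n ((Nat.Prime.coprime_iff_not_dvd hp.out).mpr hW)).symm
  have hd : W ⊓ (P : Subgroup G) = ⊥ :=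
    disjoint_iff.mp (Subgroup.disjoint_of_coprime_natCard hcop)
  have hcard := card_sup_of_disjoint hWN hd
  have h1 : p ^ j ∣ Nat.card (P : Subgroup G) := by
    apply P.pow_dvd_card_of_pow_dvd_card
    exact (Dvd.intro_left _ hL.symm).trans (Subgroup.card_subgroup_dvd_card L)
  have h2 : Nat.card (P : Subgroup G) ∣ p ^ j := by
    have h3 : Nat.card (P : Subgroup G) ∣ Nat.card W * p ^ j := by
      rw [← hL]; exact Subgroup.card_dvd_of_le hPL
    exact hcop.symm.dvd_of_dvd_mul_left h3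
  have h4 : Nat.card (P : Subgroup G) = p ^ j := Nat.dvd_antisymm h2 h1
  have h5 : W ⊔ (P : Subgroup G) = L := by
    apply Subgroup.eq_of_le_of_card_ge (sup_le hWL hPL)
    rw [hcard, hL, h4, mul_comm]
  rw [← h5]
  exact sup_le hWN le_normalizer

theorem normalizer_le_normalizer_centralizer [Finite G] (H : Subgroup G) :
    normalizer (H : Set G) ≤ normalizer ((centralizer (H : Set G) : Subgroup G) : Set G) := by
  intro n hn
  apply mem_normalizer_of_conj_mem
  intro c hc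
  rw [mem_centralizer_iff] at hc ⊢
  intro h hh
  have h1 := hc _ (conj_inv_mem_of_mem_normalizer hn hh)
  calc h * (n * c * n⁻¹) = n * ((n⁻¹ * h * n) * c) * n⁻¹ := by group
    _ = n * (c * (n⁻¹ * h * n)) * n⁻¹ := by rw [h1]
    _ = n * c * n⁻¹ * h := by group

theorem card_ne_one_add_one (H : Subgroup G) [Finite H] :
    Nat.card {y : H // y ≠ 1} + 1 = Nat.card H := by
  rw [← Finite.card_option]
  classical exact Nat.card_congr (Equiv.optionSubtypeNe (1 : H))

/-- counting conjugates of the nonidentity elements of `Y` inside `Q` -/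
theorem conj_count [Finite G] (Y Q : Subgroup G) (g : G) (n : ℕ)
    (hmem : ∀ i < n, ∀ y ∈ Y, g ^ i * y * (g ^ i)⁻¹ ∈ Q)
    (hinj : ∀ i < n, ∀ i' < n, ∀ y ∈ Y, ∀ y' ∈ Y, y ≠ 1 →
      g ^ i * y * (g ^ i)⁻¹ = g ^ i' * y' * (g ^ i')⁻¹ → i = i' ∧ y = y') :
    n * (Nat.card Y - 1) + 1 ≤ Nat.card Q ∧
    (n * (Nat.card Y - 1) + 1 = Nat.card Q → ∀ x ∈ Q, x ≠ 1 →
      ∃ i < n, ∃ y ∈ Y, y ≠ 1 ∧ x = g ^ i * y * (g ^ i)⁻¹) := by
  let f : Fin n × {y : Y // y ≠ 1} → {x : Q // x ≠ 1} := fun a =>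
    ⟨⟨g ^ (a.1 : ℕ) * (a.2.1 : G) * (g ^ (a.1 : ℕ))⁻¹, hmem a.1 a.1.2 a.2.1 a.2.1.2⟩, by
      intro h
      apply a.2.2
      have h1 : g ^ (a.1 : ℕ) * (a.2.1 : G) * (g ^ (a.1 : ℕ))⁻¹ = 1 := congrArg Subtype.val h
      have h2 : (a.2.1 : G) = 1 := by
        have e : (a.2.1 : G) = (g ^ (a.1 : ℕ))⁻¹ *
            (g ^ (a.1 : ℕ) * (a.2.1 : G) * (g ^ (a.1 : ℕ))⁻¹) * g ^ (a.1 : ℕ) := by group
        rw [e, h1]; group
      exact Subtype.ext h2⟩
  have hf : Function.Injective f := by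
    rintro ⟨i, y⟩ ⟨i', y'⟩ h
    have h1 : g ^ (i : ℕ) * (y.1 : G) * (g ^ (i : ℕ))⁻¹ =
        g ^ (i' : ℕ) * (y'.1 : G) * (g ^ (i' : ℕ))⁻¹ :=
      congrArg (fun z : {x : Q // x ≠ 1} => ((z.1 : Q) : G)) h
    have hy1 : (y.1 : G) ≠ 1 := fun h => y.2 (Subtype.ext h)
    obtain ⟨h2, h3⟩ := hinj i i.2 i' i'.2 y.1 y.1.2 y'.1 y'.1.2 hy1 h1
    have h4 : i = i' := Fin.ext h2
    have h5 : y = y' := Subtype.ext (Subtype.ext h3)
    rw [h4, h5]
  have hcY : Nat.card {y : Y // y ≠ 1} = Nat.card Y - 1 := by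
    have := card_ne_one_add_one Y; omega
  have hcQ : Nat.card {x : Q // x ≠ 1} = Nat.card Q - 1 := by
    have := card_ne_one_add_one Q; omega
  have hdom : Nat.card (Fin n × {y : Y // y ≠ 1}) = n * (Nat.card Y - 1) := by
    rw [Nat.card_prod, Nat.card_fin, hcY]
  have hQpos : 0 < Nat.card Q := Nat.card_pos
  have hle : Nat.card (Fin n × {y : Y // y ≠ 1}) ≤ Nat.card {x : Q // x ≠ 1} :=
    Nat.card_le_card_of_injective f hf
  refine ⟨by rw [hdom, hcQ] at hle; omega, fun heq x hx hx1 => ?_⟩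
  have hbij := hf.bijective_of_nat_card_le (by rw [hdom, hcQ]; omega)
  obtain ⟨⟨i, y⟩, hiy⟩ := hbij.2 ⟨⟨x, hx⟩, fun h => hx1 (congrArg Subtype.val h)⟩
  refine ⟨i, i.2, y.1, y.1.2, fun h => y.2 (Subtype.ext h), ?_⟩
  exact (congrArg (fun z : {x : Q // x ≠ 1} => ((z.1 : Q) : G)) hiy).symm

theorem arith1 {p y E e : ℕ} (hp : 2 ≤ p) (hy : 2 ≤ y) (hE : E ∣ e) (he : e ∣ p - 1)
    (h : p * (y - 1) + 1 ≤ y * E) : E = p - 1 ∧ e = p - 1 ∧ y ≤ p - 1 := by
  obtain ⟨y', rfl⟩ : ∃ y', y = y' + 1 := ⟨y - 1, by omega⟩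
  obtain ⟨p', rfl⟩ : ∃ p', p = p' + 1 := ⟨p - 1, by omega⟩
  simp only [Nat.add_sub_cancel] at *
  have hp' : 1 ≤ p' := by omega
  have hy' : 1 ≤ y' := by omega
  obtain ⟨c, hc⟩ := hE.trans he
  have hc1 : c = 1 := by
    by_contra hc1
    have hc2 : 2 ≤ c := by
      rcases c with _ | _ | c
      · simp at hc; omega
      · exact absurd rfl hc1
      · omega
    have h2E : 2 * E ≤ p' := by rw [hc]; nlinarith
    have h3 := Nat.mul_le_mul_right y' h2E
    have h4 := Nat.mul_le_mul_left E hy'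
    nlinarith
  rw [hc1, mul_one] at hc
  have hee : e = p' := by
    apply Nat.dvd_antisymm he
    rw [hc]; exact hE
  refine ⟨hc.symm, hee, ?_⟩
  rw [hc] at h ⊢
  nlinarith

end general

/-- the data of a minimal counterexample to the dichotomy -/
structure MC {G : Type*} [Group G] (p : ℕ) (P : Sylow p G) (k : G) : Prop where
  cyc : IsCyclic (P : Subgroup G)
  hab : ∀ H : Subgroup G, ¬ p ∣ Nat.card H → IsMulCommutative H
  nn : ¬ (P : Subgroup G).Normal
  kN : k ∈ normalizer ((P : Subgroup G) : Set G)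
  kp : (orderOf k).Coprime p
  kne : ∃ h ∈ P, k * h * k⁻¹ ≠ h
  dich : ∀ H : Subgroup G, H ≠ ⊤ → Dich p H

/-- the configuration used in the endgame: a Sylow `q`-subgroup `Y` of `C(P)` inside a Sylow
`q`-subgroup `Q ≤ N(P)` of `G`, and a `p`-element `g₁` normalizing `Q` with `g₁ ∉ N(P)`,
`g₁ ^ p ∈ N(P)` -/
structure Config {G : Type*} [Group G] (p : ℕ) (P : Sylow p G) (q : ℕ) (Y : Subgroup G)
    (Q : Sylow q G) (g₁ : G) : Prop where
  YC : Y ≤ centralizer ((P : Subgroup G) : Set G)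
  YQ : Y ≤ Q
  Ycard : ∀ n : ℕ, q ^ n ∣ Nat.card (centralizer ((P : Subgroup G) : Set G)) → q ^ n ∣ Nat.card Y
  QN : (Q : Subgroup G) ≤ normalizer ((P : Subgroup G) : Set G)
  QC : ∀ x ∈ Q, x ∈ centralizer ((P : Subgroup G) : Set G) → x ∈ Y
  gQ : g₁ ∈ normalizer ((Q : Subgroup G) : Set G)
  gN : g₁ ∉ normalizer ((P : Subgroup G) : Set G)
  gp : g₁ ^ p ∈ normalizer ((P : Subgroup G) : Set G)

theorem Config.conj_mem {G : Type*} [Group G] {p : ℕ} {P : Sylow p G} {q : ℕ} {Y : Subgroup G}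
    {Q : Sylow q G} {g₁ : G} (cf : Config p P q Y Q g₁) (i : ℕ) {y : G} (hy : y ∈ Y) :
    g₁ ^ i * y * (g₁ ^ i)⁻¹ ∈ Q :=
  conj_mem_of_mem_normalizer (pow_mem cf.gQ i) (cf.YQ hy)

namespace MC

variable {G : Type*} [Group G] [Finite G] {p : ℕ} [hp : Fact p.Prime] {P : Sylow p G} {k : G}

theorem kconj (mc : MC p P k) {h : G} (hh : h ∈ P) : k * h * k⁻¹ ∈ P :=
  conj_mem_of_mem_normalizer mc.kN hh

theorem pcomm (mc : MC p P k) {a b : G} (ha : a ∈ P) (hb : b ∈ P) : a * b = b * a :=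
  have := mc.cyc
  cyc_comm (P : Subgroup G) ha hb

/-- `k` acts fixed-point-freely on `P` -/
theorem fpf (mc : MC p P k) {u : G} (hu : u ∈ P) (hfix : k * u * k⁻¹ = u) : u = 1 := by
  by_contra hu1
  obtain ⟨h, hh, hne⟩ := mc.kne
  have := mc.cyc
  exact hne (cent_of_fix (P : Subgroup G) P.isPGroup' (fun h hh => mc.kconj hh) mc.kp
    (pow_orderOf_eq_one k) hu hu1 hfix h hh)

/-- every element of `P` is a commutator with `k` -/
theorem exists_comm (mc : MC p P k) {u : G} (hu : u ∈ P) :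
    ∃ h ∈ P, u = h⁻¹ * (k * h * k⁻¹) := by
  let f : ↥(P : Subgroup G) → ↥(P : Subgroup G) := fun h =>
    ⟨(h : G)⁻¹ * (k * h * k⁻¹), mul_mem (inv_mem h.2) (mc.kconj h.2)⟩
  have hf : Function.Injective f := by
    intro a b hab
    have h1 : (a : G)⁻¹ * (k * a * k⁻¹) = (b : G)⁻¹ * (k * b * k⁻¹) := congrArg Subtype.val hab
    have h2 : k * ((b : G) * (a : G)⁻¹) * k⁻¹ = (b : G) * (a : G)⁻¹ := by
      have e : k * ((b : G) * (a : G)⁻¹) * k⁻¹ = (k * b * k⁻¹) * (k * a * k⁻¹)⁻¹ := by group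
      have hA : k * a * k⁻¹ = a * ((b : G)⁻¹ * (k * b * k⁻¹)) := by rw [← h1]; group
      rw [e, hA]; group
    have h3 := mc.fpf (mul_mem b.2 (inv_mem a.2)) h2
    exact Subtype.ext (by rw [mul_inv_eq_one] at h3; exact h3.symm)
  obtain ⟨h, hh⟩ := Finite.surjective_of_injective hf ⟨u, hu⟩
  exact ⟨h, h.2, (congrArg Subtype.val hh).symm⟩

/-- a subgroup normalized by `P` and centralized by `k` is centralized by `P` -/
theorem cent_of_kcent (mc : MC p P k) {W : Subgroup G} (hk : ∀ w ∈ W, k * w = w * k)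
    (hP : (P : Subgroup G) ≤ normalizer (W : Set G)) : ∀ h ∈ P, ∀ w ∈ W, h * w = w * h := by
  intro u hu w hw
  obtain ⟨h, hh, rfl⟩ := mc.exists_comm hu
  have h1 : h * w * h⁻¹ ∈ W := conj_mem_of_mem_normalizer (hP hh) hw
  have h2 := hk _ h1
  have h3 := hk w hw
  have h3' : k⁻¹ * w = w * k⁻¹ := by
    have : k⁻¹ * w = k⁻¹ * (w * k) * k⁻¹ := by group
    rw [this, ← h3]; group
  calc h⁻¹ * (k * h * k⁻¹) * w = h⁻¹ * k * h * (k⁻¹ * w) := by group
    _ = h⁻¹ * k * h * (w * k⁻¹) := by rw [h3']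
    _ = h⁻¹ * (k * (h * w * h⁻¹)) * h * k⁻¹ := by group
    _ = h⁻¹ * ((h * w * h⁻¹) * k) * h * k⁻¹ := by rw [h2]
    _ = w * (h⁻¹ * (k * h * k⁻¹)) := by group

/-- a normal subgroup containing `P` is everything -/
theorem normal_top (mc : MC p P k) {N₀ : Subgroup G} (hn : N₀.Normal)
    (hP : (P : Subgroup G) ≤ N₀) : N₀ = ⊤ := by
  by_contra hne
  apply mc.nn
  have key : N₀ ≤ normalizer ((P : Subgroup G) : Set G) := by
    rcases mc.dich N₀ hne with ⟨W, hWN, hNW, hWp, ⟨j, hj⟩, hall⟩ | ⟨D, hDN, hND, hDp, hall⟩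
    · have hWnorm : ∀ g : G, ∀ w ∈ W, g * w * g⁻¹ ∈ W := by
        intro g w hw
        apply hall _ (hn.conj_mem w (hWN hw) g)
        rw [orderOf_conj']
        exact coprime_orderOf_of_mem hWp hw
      have hkW : k ∈ normalizer (W : Set G) := mem_normalizer_of_conj_mem W (hWnorm k)
      have hkc := comm_of_p' mc.hab hWp hkW mc.kp
      have hPc := mc.cent_of_kcent hkc (fun h hh => mem_normalizer_of_conj_mem W (hWnorm h))
      exact le_normalizer_of_split P hWp hWN hP hPc hj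
    · have hPD : (P : Subgroup G) ≤ D := fun h hh => by
        obtain ⟨j, hj⟩ := pow_eq_one_of_isPGroup P.isPGroup' hh
        exact hall h (hP hh) j hj
      have hDP : D = P := P.is_maximal' hDp hPD
      rw [← hDP]; exact hND
  refine ⟨fun h hh g => ?_⟩
  obtain ⟨j, hj⟩ := pow_eq_one_of_isPGroup P.isPGroup' hh
  have h1 : g * h * g⁻¹ ∈ normalizer ((P : Subgroup G) : Set G) :=
    key (hn.conj_mem h (hP hh) g)
  exact mem_sylow_of_normalizer P h1 (j := j) (by rw [← conj_pow_eq, hj]; simp)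

open scoped commutatorElement in
/-- `G` is perfect -/
theorem comm_top (mc : MC p P k) : _root_.commutator G = ⊤ := by
  apply mc.normal_top inferInstance
  intro u hu
  obtain ⟨h, hh, rfl⟩ := mc.exists_comm hu
  have : h⁻¹ * (k * h * k⁻¹) = ⁅h⁻¹, k⁆ := by rw [commutatorElement_def]; group
  rw [this, _root_.commutator_def]
  exact Subgroup.commutator_mem_commutator (mem_top _) (mem_top _)

theorem sylow_comm (mc : MC p P k) {q : ℕ} [hq : Fact q.Prime] (hqp : q ≠ p) (S : Sylow q G) :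
    IsMulCommutative S :=
  mc.hab _ (not_dvd_card_sylow' hqp S)

/-- the centre of `G` is trivial -/
theorem central_eq_one (mc : MC p P k) {x : G} (hx : ∀ g : G, g * x = x * g) : x = 1 := by
  by_contra hx1
  have ho : orderOf x ≠ 1 := fun h => hx1 (orderOf_eq_one_iff.mp h)
  obtain ⟨q, hq, hqd⟩ := Nat.exists_prime_and_dvd ho
  have : Fact q.Prime := ⟨hq⟩
  set y := x ^ (orderOf x / q) with hy
  have hyo : orderOf y = q := orderOf_pow_orderOf_div (orderOf_pos x).ne' hqd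
  have hyc : ∀ g : G, g * y = y * g := fun g => (Commute.pow_right (hx g) _).eq
  have hy1 : y ≠ 1 := by intro h; rw [h, orderOf_one] at hyo; exact hq.ne_one hyo.symm
  have hyq : y ^ q ^ 1 = 1 := by rw [pow_one, ← hyo]; exact pow_orderOf_eq_one y
  by_cases hqp : q = p
  · subst hqp
    have hyN : y ∈ normalizer ((P : Subgroup G) : Set G) := by
      apply mem_normalizer_of_conj_mem
      intro h hh
      have : y * h * y⁻¹ = h := by rw [← hyc h]; group
      rw [this]; exact hh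
    have hyP : y ∈ P := mem_sylow_of_normalizer P hyN hyq
    have hfix : k * y * k⁻¹ = y := by rw [hyc k]; group
    exact hy1 (mc.fpf hyP hfix)
  · obtain ⟨S, hS⟩ := (N22.isPGroup_zpowers q y 1 hyq).exists_le_sylow
    have := mc.sylow_comm hqp S
    apply hy1
    exact lemmaT S (hS (mem_zpowers y)) (fun n _ => hyc n) (by rw [mc.comm_top]; exact mem_top _)

/-- no nontrivial normal `p'`-subgroup -/
theorem normal_p'_bot (mc : MC p P k) {W : Subgroup G} (hn : W.Normal)
    (hW : ¬ p ∣ Nat.card W) : W = ⊥ := by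
  have hkc := comm_of_p' mc.hab hW
    (by rw [normalizer_eq_top_iff.mpr hn]; exact mem_top _) mc.kp
  have hPc := mc.cent_of_kcent hkc (by rw [normalizer_eq_top_iff.mpr hn]; exact le_top)
  have := hn
  have hC : centralizer (W : Set G) = ⊤ := by
    apply mc.normal_top inferInstance
    intro h hh
    rw [mem_centralizer_iff]
    intro w hw
    exact (hPc h hh w hw).symm
  rw [eq_bot_iff]
  intro w hw
  rw [mem_bot]
  apply mc.central_eq_one
  intro g
  have h1 : g ∈ centralizer (W : Set G) := by rw [hC]; exact mem_top _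
  rw [mem_centralizer_iff] at h1
  exact (h1 w hw).symm

/-- no nontrivial normal `p`-subgroup -/
theorem normal_p_bot (mc : MC p P k) {D : Subgroup G} (hn : D.Normal) (hD : IsPGroup p D) :
    D = ⊥ := by
  have := hn
  have hDP : D ≤ P := hD.le_sylow_of_normal P
  have hC : centralizer (D : Set G) = ⊤ := by
    apply mc.normal_top inferInstance
    intro h hh
    rw [mem_centralizer_iff]
    intro d hd
    exact mc.pcomm (hDP hd) hh
  rw [eq_bot_iff]
  intro d hd
  rw [mem_bot]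
  apply mc.fpf (hDP hd)
  have h1 : k ∈ centralizer (D : Set G) := by rw [hC]; exact mem_top _
  rw [mem_centralizer_iff] at h1
  rw [← h1 d hd]; group

/-- `G` is simple -/
theorem simple (mc : MC p P k) : IsSimpleGroup G := by
  have : Nontrivial G := by
    obtain ⟨h, hh, hne⟩ := mc.kne
    refine ⟨⟨k, 1, ?_⟩⟩
    rintro rfl
    apply hne; simp
  refine ⟨fun M hM => ?_⟩
  by_contra hcon
  push Not at hcon
  obtain ⟨hM1, hM2⟩ := hcon
  rcases mc.dich M hM2 with ⟨W, hWM, hMW, hWp, ⟨j, hj⟩, hall⟩ | ⟨D, hDM, hMD, hDp, hall⟩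
  · have hWn : W.Normal := by
      refine ⟨fun w hw g => ?_⟩
      apply hall _ (hM.conj_mem w (hWM hw) g)
      rw [orderOf_conj']
      exact coprime_orderOf_of_mem hWp hw
    have hW := mc.normal_p'_bot hWn hWp
    have hMp : IsPGroup p M :=
      IsPGroup.of_card (n := j) (by rw [hj, hW, Subgroup.card_bot, one_mul])
    exact hM1 (mc.normal_p_bot hM hMp)
  · have hDn : D.Normal := by
      refine ⟨fun d hd g => ?_⟩
      obtain ⟨j, hj⟩ := pow_eq_one_of_isPGroup hDp hd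
      exact hall _ (hM.conj_mem d (hDM hd) g) j (by rw [← conj_pow_eq, hj]; simp)
    have hD := mc.normal_p_bot hDn hDp
    have hMp : ¬ p ∣ Nat.card M := by
      intro hdvd
      obtain ⟨x, hxM, hxo⟩ := exists_mem_orderOf M p hdvd
      have hxD : x ∈ D := hall x hxM 1 (by rw [pow_one, ← hxo]; exact pow_orderOf_eq_one x)
      rw [hD, mem_bot] at hxD
      rw [hxD, orderOf_one] at hxo
      exact hp.out.ne_one hxo.symm
    exact hM1 (mc.normal_p'_bot hM hMp)

/-- a proper subgroup containing `P` and `k` normalizes `P` -/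
theorem le_norm_of_mem (mc : MC p P k) {L : Subgroup G} (hL : L ≠ ⊤)
    (hPL : (P : Subgroup G) ≤ L) (hkL : k ∈ L) :
    L ≤ normalizer ((P : Subgroup G) : Set G) := by
  rcases mc.dich L hL with ⟨W, hWL, hLW, hWp, ⟨j, hj⟩, hall⟩ | ⟨D, hDL, hLD, hDp, hall⟩
  · have hkc := comm_of_p' mc.hab hWp (hLW hkL) mc.kp
    have hPc := mc.cent_of_kcent hkc (hPL.trans hLW)
    exact le_normalizer_of_split P hWp hWL hPL hPc hj
  · have hPD : (P : Subgroup G) ≤ D := fun h hh => by
      obtain ⟨j, hj⟩ := pow_eq_one_of_isPGroup P.isPGroup' hh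
      exact hall h (hPL hh) j hj
    have hDP : D = P := P.is_maximal' hDp hPD
    rw [← hDP]; exact hLD

/-- normalizers of nontrivial subgroups of `P` normalize `P` -/
theorem norm_le_of_le (mc : MC p P k) {D : Subgroup G} (hD : D ≤ P) (hD1 : D ≠ ⊥) :
    normalizer (D : Set G) ≤ normalizer ((P : Subgroup G) : Set G) := by
  apply mc.le_norm_of_mem
  · intro htop
    exact hD1 (mc.normal_p_bot (normalizer_eq_top_iff.mp htop) (P.isPGroup'.to_le hD))
  · intro h hh
    apply mem_normalizer_of_conj_mem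
    intro d hd
    have : h * d * h⁻¹ = d := by rw [mc.pcomm hh (hD hd)]; group
    rw [this]; exact hd
  · apply mem_normalizer_of_conj_mem
    intro d hd
    have := mc.cyc
    obtain ⟨m, hm⟩ := exists_zpow_conj (P : Subgroup G) (fun h hh => mc.kconj hh)
    rw [hm d (hD hd)]
    exact zpow_mem hd m

theorem cent_le_norm (mc : MC p P k) {u : G} (hu : u ∈ P) (hu1 : u ≠ 1) :
    centralizer ({u} : Set G) ≤ normalizer ((P : Subgroup G) : Set G) := by
  refine le_trans ?_ (mc.norm_le_of_le (D := zpowers u) (by rw [zpowers_le]; exact hu)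
    (by rw [Ne, zpowers_eq_bot]; exact hu1))
  intro x hx
  rw [mem_centralizer_iff] at hx
  have hxu : u * x = x * u := hx u rfl
  apply mem_normalizer_of_conj_mem
  intro d hd
  obtain ⟨i, rfl⟩ := mem_zpowers_iff.mp hd
  have : x * u ^ i * x⁻¹ = u ^ i := by
    rw [← conj_zpow, ← hxu, mul_inv_cancel_right]
  rw [this]; exact hd

/-- `P` is a TI-subgroup -/
theorem ti (mc : MC p P k) {g x : G} (hx : x ∈ P) (hx1 : x ≠ 1) (hgx : g * x * g⁻¹ ∈ P) :
    g ∈ normalizer ((P : Subgroup G) : Set G) := by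
  apply mem_normalizer_of_conj_mem
  intro h hh
  have hu1 : g * x * g⁻¹ ≠ 1 := by
    intro h1; apply hx1
    have : x = g⁻¹ * (g * x * g⁻¹) * g := by group
    rw [this, h1]; group
  have h1 : g * h * g⁻¹ ∈ centralizer ({g * x * g⁻¹} : Set G) := by
    rw [mem_centralizer_iff]
    intro z hz
    rw [Set.mem_singleton_iff] at hz; rw [hz]
    have := mc.pcomm hx hh
    calc g * x * g⁻¹ * (g * h * g⁻¹) = g * (x * h) * g⁻¹ := by group
      _ = g * (h * x) * g⁻¹ := by rw [this]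
      _ = g * h * g⁻¹ * (g * x * g⁻¹) := by group
  obtain ⟨j, hj⟩ := pow_eq_one_of_isPGroup P.isPGroup' hh
  exact mem_sylow_of_normalizer P (mc.cent_le_norm hgx hu1 h1) (j := j)
    (by rw [← conj_pow_eq, hj]; simp)

/-- `p'`-elements of `C(P)` are central in `N(P)` -/
theorem k1 (mc : MC p P k) {y : G} (hy : y ∈ centralizer ((P : Subgroup G) : Set G))
    (hyo : (orderOf y).Coprime p) :
    ∀ n ∈ normalizer ((P : Subgroup G) : Set G), n * y = y * n := by
  intro n hn
  have hyN : y ∈ normalizer ((P : Subgroup G) : Set G) := centralizer_le_normalizer _ hy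
  set u := n * y * n⁻¹ * y⁻¹ with hu
  have huP : u ∈ P := norm_comm_mem P mc.hab n hn y hyN
  have huy : u * y = y * u := by
    rw [mem_centralizer_iff] at hy
    exact hy u huP
  have h1 : n * y * n⁻¹ = u * y := by rw [hu]; group
  have h2 : (u * y) ^ orderOf y = 1 := by
    rw [← h1, ← conj_pow_eq, pow_orderOf_eq_one]; simp
  have h3 : u ^ orderOf y = 1 := by
    have hc : Commute u y := huy
    rw [hc.mul_pow, pow_orderOf_eq_one, mul_one] at h2
    exact h2
  obtain ⟨j, hj⟩ := pow_eq_one_of_isPGroup P.isPGroup' huP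
  have hu1 : u = 1 := eq_one_of_pow_coprime (Nat.Coprime.pow_right j hyo) h3 hj
  have h4 : n * y * n⁻¹ = y := by rw [h1, hu1, one_mul]
  calc n * y = n * y * n⁻¹ * n := by group
    _ = y * n := by rw [h4]

theorem cent_p'_le_norm (mc : MC p P k) {y : G}
    (hy : y ∈ centralizer ((P : Subgroup G) : Set G)) (hyo : (orderOf y).Coprime p)
    (hy1 : y ≠ 1) : centralizer ({y} : Set G) ≤ normalizer ((P : Subgroup G) : Set G) := by
  apply mc.le_norm_of_mem
  · intro htop
    apply hy1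
    apply mc.central_eq_one
    intro g
    have h1 : g ∈ centralizer ({y} : Set G) := by rw [htop]; exact mem_top _
    rw [mem_centralizer_iff] at h1
    exact (h1 y rfl).symm
  · intro h hh
    rw [mem_centralizer_iff]
    intro z hz; rw [Set.mem_singleton_iff] at hz; rw [hz]
    rw [mem_centralizer_iff] at hy
    exact (hy h hh).symm
  · rw [mem_centralizer_iff]
    intro z hz; rw [Set.mem_singleton_iff] at hz; rw [hz]
    exact (mc.k1 hy hyo k mc.kN).symm

/-- conjugates of `p'`-elements of `C(P)` lying in `C(P)` come from `N(P)` -/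
theorem k2 (mc : MC p P k) {y g : G} (hy : y ∈ centralizer ((P : Subgroup G) : Set G))
    (hyo : (orderOf y).Coprime p) (hy1 : y ≠ 1)
    (hg : g * y * g⁻¹ ∈ centralizer ((P : Subgroup G) : Set G)) :
    g ∈ normalizer ((P : Subgroup G) : Set G) := by
  have key : g⁻¹ ∈ normalizer ((P : Subgroup G) : Set G) := by
    apply mem_normalizer_of_conj_mem
    intro h hh
    have h1 : g⁻¹ * h * g ∈ centralizer ({y} : Set G) := by
      rw [mem_centralizer_iff]
      intro z hz; rw [Set.mem_singleton_iff] at hz; rw [hz]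
      rw [mem_centralizer_iff] at hg
      have := hg h hh
      calc y * (g⁻¹ * h * g) = g⁻¹ * ((g * y * g⁻¹) * h) * g := by group
        _ = g⁻¹ * (h * (g * y * g⁻¹)) * g := by rw [this]
        _ = g⁻¹ * h * g * y := by group
    obtain ⟨j, hj⟩ := pow_eq_one_of_isPGroup P.isPGroup' hh
    rw [inv_inv]
    refine mem_sylow_of_normalizer P (mc.cent_p'_le_norm hy hyo hy1 h1) (j := j) ?_
    have e : g⁻¹ * h * g = g⁻¹ * h * g⁻¹⁻¹ := by rw [inv_inv]
    rw [e, ← conj_pow_eq, hj]; simp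
  exact inv_mem_iff.mp key

theorem sylow_p'_cent (mc : MC p P k) {q : ℕ} [hq : Fact q.Prime] (hqp : q ≠ p)
    (S : Sylow q G) : ∀ x ∈ normalizer ((S : Subgroup G) : Set G), (orderOf x).Coprime p →
      x ∈ centralizer ((S : Subgroup G) : Set G) := by
  intro x hx hxo
  rw [mem_centralizer_iff]
  intro w hw
  exact (comm_of_p' mc.hab (not_dvd_card_sylow' hqp S) hx hxo w hw).symm

theorem sylow_z (mc : MC p P k) {q : ℕ} [hq : Fact q.Prime] (hqp : q ≠ p) (S : Sylow q G) :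
    ∀ y ∈ (S : Subgroup G), (∀ x ∈ normalizer ((S : Subgroup G) : Set G), x * y = y * x) →
      y = 1 := by
  intro y hy hyN
  have := mc.sylow_comm hqp S
  exact lemmaT S hy hyN (by rw [mc.comm_top]; exact mem_top _)

theorem sylow_card (mc : MC p P k) {q : ℕ} [hq : Fact q.Prime] (hqp : q ≠ p) (S : Sylow q G) :
    Nat.card (S : Subgroup G) ≡ 1 [MOD p] :=
  card_modEq_one_of_fpf (S : Subgroup G) (mc.sylow_p'_cent hqp S) (mc.sylow_z hqp S)

theorem le_cent (mc : MC p P k) :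
    (P : Subgroup G) ≤ centralizer ((P : Subgroup G) : Set G) := by
  intro h hh
  rw [mem_centralizer_iff]
  intro z hz
  exact mc.pcomm hz hh

theorem idx_eq (mc : MC p P k) :
    (P : Subgroup G).relIndex (centralizer ((P : Subgroup G) : Set G)) *
      (centralizer ((P : Subgroup G) : Set G)).relIndex (normalizer ((P : Subgroup G) : Set G)) =
    (P : Subgroup G).relIndex (normalizer ((P : Subgroup G) : Set G)) :=
  relIndex_mul_relIndex _ _ _ mc.le_cent (centralizer_le_normalizer _)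

theorem not_dvd_relIndex_norm (P : Sylow p G) :
    ¬ p ∣ (P : Subgroup G).relIndex (normalizer ((P : Subgroup G) : Set G)) :=
  (P.subtype le_normalizer).not_dvd_index

theorem not_dvd_e (mc : MC p P k) :
    ¬ p ∣ (centralizer ((P : Subgroup G) : Set G)).relIndex
      (normalizer ((P : Subgroup G) : Set G)) := fun h =>
  not_dvd_relIndex_norm P (mc.idx_eq ▸ Dvd.dvd.mul_left h _)

theorem not_dvd_c (mc : MC p P k) :
    ¬ p ∣ (P : Subgroup G).relIndex (centralizer ((P : Subgroup G) : Set G)) := fun h =>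
  not_dvd_relIndex_norm P (mc.idx_eq ▸ Dvd.dvd.mul_right h _)

theorem e_dvd (mc : MC p P k) :
    (centralizer ((P : Subgroup G) : Set G)).relIndex (normalizer ((P : Subgroup G) : Set G)) ∣
      p - 1 := by
  have h1 : (centralizer ((P : Subgroup G) : Set G)).relIndex
      (normalizer ((P : Subgroup G) : Set G)) ∣ Nat.card (MulAut (P : Subgroup G)) := by
    rw [relIndex, ← Subgroup.normalizerMonoidHom_ker, Subgroup.index_ker]
    exact Subgroup.card_subgroup_dvd_card _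
  have := mc.cyc
  obtain ⟨n, hn⟩ := IsPGroup.iff_card.mp P.isPGroup'
  rw [IsCyclic.card_mulAut, hn] at h1
  rcases Nat.eq_zero_or_pos n with h0 | h0
  · rw [h0, pow_zero, Nat.totient_one] at h1
    exact h1.trans (one_dvd _)
  · rw [Nat.totient_prime_pow hp.out h0] at h1
    have hcop : Nat.Coprime ((centralizer ((P : Subgroup G) : Set G)).relIndex
        (normalizer ((P : Subgroup G) : Set G))) (p ^ (n - 1)) :=
      Nat.Coprime.pow_right _ ((Nat.Prime.coprime_iff_not_dvd hp.out).mpr mc.not_dvd_e).symm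
    exact hcop.dvd_of_dvd_mul_left h1

theorem e_ne_one (mc : MC p P k) :
    (centralizer ((P : Subgroup G) : Set G)).relIndex (normalizer ((P : Subgroup G) : Set G)) ≠
      1 := by
  intro h
  have h1 := relIndex_eq_one.mp h
  obtain ⟨x, hx, hne⟩ := mc.kne
  apply hne
  have h2 := h1 mc.kN
  rw [mem_centralizer_iff] at h2
  rw [← h2 x hx]; group

theorem card_cent (mc : MC p P k) :
    Nat.card (P : Subgroup G) *
      (P : Subgroup G).relIndex (centralizer ((P : Subgroup G) : Set G)) =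
    Nat.card (centralizer ((P : Subgroup G) : Set G)) :=
  card_mul_relIndex' mc.le_cent

theorem card_norm (mc : MC p P k) :
    Nat.card (centralizer ((P : Subgroup G) : Set G)) *
      (centralizer ((P : Subgroup G) : Set G)).relIndex (normalizer ((P : Subgroup G) : Set G)) =
    Nat.card (normalizer ((P : Subgroup G) : Set G)) :=
  card_mul_relIndex' (centralizer_le_normalizer _)

/-- the key congruence `e * c₀ ≡ 1 (mod p)` -/
theorem star (mc : MC p P k) :
    (centralizer ((P : Subgroup G) : Set G)).relIndex (normalizer ((P : Subgroup G) : Set G)) *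
      (P : Subgroup G).relIndex (centralizer ((P : Subgroup G) : Set G)) ≡ 1 [MOD p] := by
  have hn0 : Nat.card G ≠ 0 := Nat.card_pos.ne'
  have hm : Nat.card G / p ^ (Nat.card G).factorization p ≡ 1 [MOD p] := by
    apply ordCompl_modEq_one hp.out hn0
    intro q hq hqp hqn
    have : Fact q.Prime := ⟨hq⟩
    obtain ⟨S⟩ := (Sylow.nonempty : Nonempty (Sylow q G))
    rw [← S.card_eq_multiplicity]
    exact mc.sylow_card hqp S
  have hP := P.card_eq_multiplicity
  have h1 := Nat.ordProj_mul_ordCompl_eq_self (Nat.card G) p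
  generalize (Nat.card G).factorization p = f at hm hP h1
  have h2 := Subgroup.card_mul_index (normalizer ((P : Subgroup G) : Set G))
  have h3 : (normalizer ((P : Subgroup G) : Set G)).index ≡ 1 [MOD p] := by
    have h := card_sylow_modEq_one p G
    rw [Sylow.card_eq_index_normalizer P] at h
    exact h
  have h4 := mc.card_cent
  have h5 := mc.card_norm
  have h6 : Nat.card G / p ^ f =
      (P : Subgroup G).relIndex (centralizer ((P : Subgroup G) : Set G)) *
      (centralizer ((P : Subgroup G) : Set G)).relIndex (normalizer ((P : Subgroup G) : Set G)) *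
      (normalizer ((P : Subgroup G) : Set G)).index := by
    have hpos : 0 < p ^ f := pow_pos hp.out.pos _
    apply Nat.eq_of_mul_eq_mul_left hpos
    rw [h1, ← h2, ← h5, ← h4, hP]; ring
  rw [h6] at hm
  calc (centralizer ((P : Subgroup G) : Set G)).relIndex (normalizer ((P : Subgroup G) : Set G)) *
        (P : Subgroup G).relIndex (centralizer ((P : Subgroup G) : Set G))
      = (P : Subgroup G).relIndex (centralizer ((P : Subgroup G) : Set G)) *
        (centralizer ((P : Subgroup G) : Set G)).relIndex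
          (normalizer ((P : Subgroup G) : Set G)) * 1 := by ring
    _ ≡ (P : Subgroup G).relIndex (centralizer ((P : Subgroup G) : Set G)) *
        (centralizer ((P : Subgroup G) : Set G)).relIndex
          (normalizer ((P : Subgroup G) : Set G)) *
        (normalizer ((P : Subgroup G) : Set G)).index [MOD p] :=
        Nat.ModEq.mul_left _ h3.symm
    _ ≡ 1 [MOD p] := hm

theorem exists_config (mc : MC p P k) {q : ℕ} [hq : Fact q.Prime] (hqp : q ≠ p)
    (hqC : q ∣ Nat.card (centralizer ((P : Subgroup G) : Set G))) :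
    ∃ (Y : Subgroup G) (Q : Sylow q G) (g₁ : G), Config p P q Y Q g₁ := by
  obtain ⟨Y₀⟩ := (Sylow.nonempty : Nonempty (Sylow q (centralizer ((P : Subgroup G) : Set G))))
  obtain ⟨Y, hY⟩ : ∃ Y : Subgroup G, Y = (Y₀ : Subgroup (centralizer ((P : Subgroup G) : Set G))).map
      (centralizer ((P : Subgroup G) : Set G)).subtype := ⟨_, rfl⟩
  have hYC : Y ≤ centralizer ((P : Subgroup G) : Set G) := by
    rw [hY]; exact Subgroup.map_subtype_le _
  have hYcard : Nat.card Y =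
      Nat.card (Y₀ : Subgroup (centralizer ((P : Subgroup G) : Set G))) := by
    rw [hY]; exact Subgroup.card_map_of_injective (Subgroup.subtype_injective _)
  have hYq : IsPGroup q Y := by rw [hY]; exact Y₀.isPGroup'.map _
  obtain ⟨Q, hYQ⟩ := hYq.exists_le_sylow
  have hqY : q ∣ Nat.card Y := by
    rw [hYcard]
    have := Y₀.pow_dvd_card_of_pow_dvd_card (n := 1) (by rwa [pow_one])
    rwa [pow_one] at this
  obtain ⟨y₀, hy₀Y, hy₀o⟩ := exists_mem_orderOf Y q hqY
  have hy₀1 : y₀ ≠ 1 := by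
    rintro rfl; rw [orderOf_one] at hy₀o; exact hq.out.ne_one hy₀o.symm
  have hQp' : ¬ p ∣ Nat.card (Q : Subgroup G) := not_dvd_card_sylow' hqp Q
  have hy₀p : (orderOf y₀).Coprime p := coprime_orderOf_of_mem hQp' (hYQ hy₀Y)
  have hQc := mc.sylow_comm hqp Q
  have hQN : (Q : Subgroup G) ≤ normalizer ((P : Subgroup G) : Set G) := by
    intro x hx
    apply mc.cent_p'_le_norm (hYC hy₀Y) hy₀p hy₀1
    rw [mem_centralizer_iff]
    intro z hz; rw [Set.mem_singleton_iff] at hz; rw [hz]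
    exact comm_of_isMulCommutative hQc (hYQ hy₀Y) hx
  have hQC : ∀ x ∈ Q, x ∈ centralizer ((P : Subgroup G) : Set G) → x ∈ Y := by
    intro x hxQ hxC
    have h1 : IsPGroup q (((Q : Subgroup G) ⊓ centralizer ((P : Subgroup G) : Set G)).subgroupOf
        (centralizer ((P : Subgroup G) : Set G))) :=
      (Q.isPGroup'.to_le inf_le_left).comap_subtype
    have h2 : (Y₀ : Subgroup (centralizer ((P : Subgroup G) : Set G))) ≤
        ((Q : Subgroup G) ⊓ centralizer ((P : Subgroup G) : Set G)).subgroupOf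
          (centralizer ((P : Subgroup G) : Set G)) := by
      intro y hy
      rw [mem_subgroupOf]
      exact ⟨hYQ (by rw [hY]; exact mem_map_of_mem _ hy), y.2⟩
    have h3 := Y₀.is_maximal' h1 h2
    have h4 : (⟨x, hxC⟩ : centralizer ((P : Subgroup G) : Set G)) ∈
        (Y₀ : Subgroup (centralizer ((P : Subgroup G) : Set G))) := by
      rw [← h3, mem_subgroupOf]; exact ⟨hxQ, hxC⟩
    rw [hY]
    exact ⟨⟨x, hxC⟩, h4, rfl⟩
  have hex : ∃ g ∈ normalizer ((Q : Subgroup G) : Set G), g * y₀ ≠ y₀ * g := by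
    by_contra hcon
    push Not at hcon
    exact hy₀1 (mc.sylow_z hqp Q y₀ (hYQ hy₀Y) hcon)
  obtain ⟨g, hgQ, hgy⟩ := hex
  obtain ⟨a, b, ha, hb, hgab, ⟨j, hj⟩, hbo⟩ := exists_parts p g
  have hzQ : zpowers g ≤ normalizer ((Q : Subgroup G) : Set G) := by rw [zpowers_le]; exact hgQ
  have hbc : b * y₀ = y₀ * b := by
    have h1 := mc.sylow_p'_cent hqp Q b (hzQ hb) hbo
    rw [mem_centralizer_iff] at h1
    exact (h1 y₀ (hYQ hy₀Y)).symm
  have hay : a * y₀ ≠ y₀ * a := by
    intro h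
    apply hgy
    rw [hgab, mul_assoc, hbc, ← mul_assoc, h, mul_assoc]
  have haN : a ∉ normalizer ((P : Subgroup G) : Set G) :=
    fun h => hay (mc.k1 (hYC hy₀Y) hy₀p a h)
  have key : ∀ j : ℕ, ∀ a : G, a ∈ normalizer ((Q : Subgroup G) : Set G) →
      a ∉ normalizer ((P : Subgroup G) : Set G) → a ^ p ^ j = 1 →
      ∃ g₁ ∈ normalizer ((Q : Subgroup G) : Set G),
        g₁ ∉ normalizer ((P : Subgroup G) : Set G) ∧
        g₁ ^ p ∈ normalizer ((P : Subgroup G) : Set G) := by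
    intro j
    induction j with
    | zero =>
      intro a _ haN ha1
      rw [pow_zero, pow_one] at ha1
      rw [ha1] at haN
      exact absurd (one_mem _) haN
    | succ j ih =>
      intro a haQ haN ha1
      by_cases hap : a ^ p ∈ normalizer ((P : Subgroup G) : Set G)
      · exact ⟨a, haQ, haN, hap⟩
      · exact ih (a ^ p) (pow_mem haQ p) hap (by rw [← pow_mul, ← pow_succ']; exact ha1)
  obtain ⟨g₁, hg₁Q, hg₁N, hg₁p⟩ := key j a (hzQ ha) haN hj
  exact ⟨Y, Q, g₁, ⟨hYC, hYQ, fun n hn => by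
    rw [hYcard]; exact Y₀.pow_dvd_card_of_pow_dvd_card hn, hQN, hQC, hg₁Q, hg₁N, hg₁p⟩⟩

theorem config_aux (mc : MC p P k) {q : ℕ} [hq : Fact q.Prime] (hqp : q ≠ p) {Y : Subgroup G}
    {Q : Sylow q G} {g₁ : G} (cf : Config p P q Y Q g₁) :
    ∀ i i' : ℕ, i' < i → i < p → ∀ y ∈ Y, ∀ y' ∈ Y, y ≠ 1 →
      g₁ ^ i * y * (g₁ ^ i)⁻¹ = g₁ ^ i' * y' * (g₁ ^ i')⁻¹ → False := by
  intro i i' hlt hip y hy y' hy' hy1 heq
  obtain ⟨d, hd⟩ : ∃ d, d = i - i' := ⟨_, rfl⟩
  have hi : i = i' + d := by omega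
  have h1 : g₁ ^ d * y * (g₁ ^ d)⁻¹ = y' := by
    have e : g₁ ^ i * y * (g₁ ^ i)⁻¹ = g₁ ^ i' * (g₁ ^ d * y * (g₁ ^ d)⁻¹) * (g₁ ^ i')⁻¹ := by
      rw [hi, pow_add]; group
    rw [e] at heq
    exact mul_left_cancel (mul_right_cancel heq)
  have hyo : (orderOf y).Coprime p :=
    coprime_orderOf_of_mem (not_dvd_card_sylow' hqp Q) (cf.YQ hy)
  have h2 : g₁ ^ d ∈ normalizer ((P : Subgroup G) : Set G) :=
    mc.k2 (cf.YC hy) hyo hy1 (by rw [h1]; exact cf.YC hy')
  have hdp : Nat.Coprime d p := by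
    apply Nat.Coprime.symm
    rw [Nat.Prime.coprime_iff_not_dvd hp.out]
    intro hdvd
    have := Nat.le_of_dvd (by omega) hdvd
    omega
  apply cf.gN
  have hb := Nat.gcd_eq_gcd_ab d p
  rw [hdp] at hb
  have e2 : g₁ = (g₁ ^ d) ^ (Nat.gcdA d p) * (g₁ ^ p) ^ (Nat.gcdB d p) := by
    rw [← zpow_natCast g₁ d, ← zpow_natCast g₁ p, ← zpow_mul, ← zpow_mul, ← zpow_add, ← hb]
    simp
  rw [e2]
  exact mul_mem (zpow_mem h2 _) (zpow_mem cf.gp _)

theorem config_inj (mc : MC p P k) {q : ℕ} [hq : Fact q.Prime] (hqp : q ≠ p) {Y : Subgroup G}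
    {Q : Sylow q G} {g₁ : G} (cf : Config p P q Y Q g₁) :
    ∀ i < p, ∀ i' < p, ∀ y ∈ Y, ∀ y' ∈ Y, y ≠ 1 →
      g₁ ^ i * y * (g₁ ^ i)⁻¹ = g₁ ^ i' * y' * (g₁ ^ i')⁻¹ → i = i' ∧ y = y' := by
  intro i hi i' hi' y hy y' hy' hy1 heq
  rcases lt_trichotomy i i' with h | h | h
  · exfalso
    have hy'1 : y' ≠ 1 := by
      rintro rfl
      apply hy1
      have e : y = (g₁ ^ i)⁻¹ * (g₁ ^ i * y * (g₁ ^ i)⁻¹) * g₁ ^ i := by group
      rw [e, heq]; group
    exact mc.config_aux hqp cf i' i h hi' y' hy' y hy hy'1 heq.symm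
  · subst h
    exact ⟨rfl, mul_left_cancel (mul_right_cancel heq)⟩
  · exact (mc.config_aux hqp cf i i' h hi y hy y' hy' hy1 heq).elim

theorem config_card (mc : MC p P k) {q : ℕ} [hq : Fact q.Prime] {Y : Subgroup G}
    {Q : Sylow q G} {g₁ : G} (cf : Config p P q Y Q g₁) :
    Nat.card (Q : Subgroup G) =
      Nat.card Y * (centralizer ((P : Subgroup G) : Set G)).relIndex (Q : Subgroup G) ∧
    (centralizer ((P : Subgroup G) : Set G)).relIndex (Q : Subgroup G) ∣
      (centralizer ((P : Subgroup G) : Set G)).relIndex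
        (normalizer ((P : Subgroup G) : Set G)) := by
  have hinf : (Q : Subgroup G) ⊓ centralizer ((P : Subgroup G) : Set G) = Y :=
    le_antisymm (fun x hx => cf.QC x hx.1 hx.2) (le_inf cf.YQ cf.YC)
  constructor
  · have h1 := card_mul_relIndex'
      (inf_le_left : (Q : Subgroup G) ⊓ centralizer ((P : Subgroup G) : Set G) ≤ Q)
    rw [Subgroup.inf_relIndex_left, hinf] at h1
    exact h1.symm
  · have hQnC : (Q : Subgroup G) ≤
        normalizer ((centralizer ((P : Subgroup G) : Set G) : Subgroup G) : Set G) :=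
      cf.QN.trans (normalizer_le_normalizer_centralizer _)
    have h1 := card_sup_eq hQnC
    have h2 : Nat.card ((Q : Subgroup G) ⊔ centralizer ((P : Subgroup G) : Set G) : Subgroup G) ∣
        Nat.card (normalizer ((P : Subgroup G) : Set G)) :=
      Subgroup.card_dvd_of_le (sup_le cf.QN (centralizer_le_normalizer _))
    rw [h1, ← mc.card_norm] at h2
    exact Nat.dvd_of_mul_dvd_mul_left Nat.card_pos h2

theorem config_arith (mc : MC p P k) {q : ℕ} [hq : Fact q.Prime] (hqp : q ≠ p)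
    {Y : Subgroup G} {Q : Sylow q G} {g₁ : G} (cf : Config p P q Y Q g₁)
    (hY : 2 ≤ Nat.card Y) :
    (centralizer ((P : Subgroup G) : Set G)).relIndex (Q : Subgroup G) = p - 1 ∧
    (centralizer ((P : Subgroup G) : Set G)).relIndex
      (normalizer ((P : Subgroup G) : Set G)) = p - 1 ∧
    Nat.card Y ≤ p - 1 ∧ q = 2 := by
  obtain ⟨hcard, hdvd⟩ := mc.config_card cf
  have hcount := (conj_count Y (Q : Subgroup G) g₁ p (fun i _ y hy => cf.conj_mem i hy)
    (mc.config_inj hqp cf)).1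
  rw [hcard] at hcount
  obtain ⟨h1, h2, h3⟩ := arith1 hp.out.two_le hY hdvd mc.e_dvd hcount
  refine ⟨h1, h2, h3, ?_⟩
  have hp3 : p ≠ 2 := by
    intro hp2
    apply mc.e_ne_one
    rw [h2, hp2]
  have hE : (centralizer ((P : Subgroup G) : Set G)).relIndex (Q : Subgroup G) ∣
      Nat.card (Q : Subgroup G) := Dvd.intro_left _ hcard.symm
  obtain ⟨n, hn⟩ := IsPGroup.iff_card.mp Q.isPGroup'
  rw [hn, h1] at hE
  have h2dvd : 2 ∣ p - 1 := by
    have hodd := hp.out.eq_two_or_odd'.resolve_left hp3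
    obtain ⟨m, hm⟩ := hodd
    exact ⟨m, by omega⟩
  have h2q : 2 ∣ q := Nat.Prime.dvd_of_dvd_pow Nat.prime_two (h2dvd.trans hE)
  exact ((Nat.prime_dvd_prime_iff_eq Nat.prime_two hq.out).mp h2q).symm

theorem prime_dvd_c (mc : MC p P k) {q : ℕ} (hq : q.Prime)
    (hqc : q ∣ (P : Subgroup G).relIndex (centralizer ((P : Subgroup G) : Set G))) :
    q = 2 ∧ (centralizer ((P : Subgroup G) : Set G)).relIndex
      (normalizer ((P : Subgroup G) : Set G)) = p - 1 := by
  have : Fact q.Prime := ⟨hq⟩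
  have hqp : q ≠ p := by rintro rfl; exact mc.not_dvd_c hqc
  have hqC : q ∣ Nat.card (centralizer ((P : Subgroup G) : Set G)) := by
    rw [← mc.card_cent]; exact Dvd.dvd.mul_left hqc _
  obtain ⟨Y, Q, g₁, cf⟩ := mc.exists_config hqp hqC
  have hY : 2 ≤ Nat.card Y := by
    have h1 := cf.Ycard 1 (by rwa [pow_one])
    rw [pow_one] at h1
    exact le_trans hq.two_le (Nat.le_of_dvd Nat.card_pos h1)
  obtain ⟨-, h2, -, h4⟩ := mc.config_arith hqp cf hY
  exact ⟨h4, h2⟩

theorem c_ne_one (mc : MC p P k) :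
    (P : Subgroup G).relIndex (centralizer ((P : Subgroup G) : Set G)) ≠ 1 := by
  intro h
  have h1 := mc.star
  rw [h, mul_one] at h1
  have h2 := mc.e_dvd
  have hp2 := hp.out.two_le
  have h3 : (centralizer ((P : Subgroup G) : Set G)).relIndex
      (normalizer ((P : Subgroup G) : Set G)) ≤ p - 1 := Nat.le_of_dvd (by omega) h2
  have h4 : (centralizer ((P : Subgroup G) : Set G)).relIndex
      (normalizer ((P : Subgroup G) : Set G)) % p = 1 % p := h1
  rw [Nat.mod_eq_of_lt (by omega), Nat.mod_eq_of_lt (by omega)] at h4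
  exact mc.e_ne_one h4

theorem final_config (mc : MC p P k) :
    ∃ (Y : Subgroup G) (Q : Sylow 2 G) (g₁ : G), Config p P 2 Y Q g₁ ∧ p ≠ 2 ∧
      (centralizer ((P : Subgroup G) : Set G)).relIndex
        (normalizer ((P : Subgroup G) : Set G)) = p - 1 ∧
      Nat.card Y = p - 1 ∧
      (P : Subgroup G).relIndex (centralizer ((P : Subgroup G) : Set G)) = p - 1 ∧
      (∀ x ∈ Q, x ≠ 1 → ∃ i < p, ∃ y ∈ Y, y ≠ 1 ∧ x = g₁ ^ i * y * (g₁ ^ i)⁻¹) := by
  obtain ⟨q, hq, hqc⟩ := Nat.exists_prime_and_dvd mc.c_ne_one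
  obtain ⟨rfl, he⟩ := mc.prime_dvd_c hq hqc
  have hp2 : p ≠ 2 := by intro h; apply mc.e_ne_one; rw [he, h]
  have h2p : (2 : ℕ) ≠ p := fun h => hp2 h.symm
  have hC2 : 2 ∣ Nat.card (centralizer ((P : Subgroup G) : Set G)) := by
    rw [← mc.card_cent]; exact Dvd.dvd.mul_left hqc _
  obtain ⟨Y, Q, g₁, cf⟩ := mc.exists_config h2p hC2
  have hY2 : 2 ≤ Nat.card Y := by
    have h1 := cf.Ycard 1 (by rwa [pow_one])
    rw [pow_one] at h1
    exact Nat.le_of_dvd Nat.card_pos h1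
  obtain ⟨hE, -, hYle, -⟩ := mc.config_arith h2p cf hY2
  obtain ⟨c₀, hc₀⟩ : ∃ c₀, c₀ = (P : Subgroup G).relIndex
      (centralizer ((P : Subgroup G) : Set G)) := ⟨_, rfl⟩
  have hcard := mc.card_cent
  have hstar := mc.star
  rw [← hc₀] at hcard hstar ⊢
  have hcpos : c₀ ≠ 0 := by
    intro h; rw [h, mul_zero] at hcard; exact Nat.card_pos.ne' hcard.symm
  have hcpow := Nat.eq_prime_pow_of_unique_prime_dvd hcpos (p := 2)
    (fun {d} hd hdc => (mc.prime_dvd_c hd (hc₀ ▸ hdc)).1)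
  have hcY : c₀ ∣ Nat.card Y := by
    rw [hcpow]
    apply cf.Ycard
    rw [← hcpow, ← hcard]
    exact Dvd.intro_left _ rfl
  rw [he] at hstar
  have hp2' := hp.out.two_le
  have hcge : p - 1 ≤ c₀ := by
    have h1 : (p - 1) * c₀ + c₀ ≡ 1 + c₀ [MOD p] := Nat.ModEq.add_right _ hstar
    have h2 : (p - 1) * c₀ + c₀ = p * c₀ := by
      obtain ⟨m, rfl⟩ : ∃ m, p = m + 1 := ⟨p - 1, by omega⟩
      simp only [Nat.add_sub_cancel]; ring
    rw [h2] at h1
    have h3 : p ∣ 1 + c₀ := by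
      have h4 : p * c₀ ≡ 0 [MOD p] := (Nat.modEq_zero_iff_dvd).mpr (Dvd.intro _ rfl)
      exact (Nat.modEq_zero_iff_dvd).mp (h1.symm.trans h4)
    have := Nat.le_of_dvd (by omega) h3
    omega
  have hcle : c₀ ≤ Nat.card Y := Nat.le_of_dvd Nat.card_pos hcY
  have hYeq : Nat.card Y = p - 1 := by omega
  have hceq : c₀ = p - 1 := by omega
  refine ⟨Y, Q, g₁, cf, hp2, he, hYeq, hceq, ?_⟩
  have hcount := conj_count Y (Q : Subgroup G) g₁ p (fun i _ y hy => cf.conj_mem i hy)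
    (mc.config_inj h2p cf)
  apply hcount.2
  obtain ⟨hcardQ, -⟩ := mc.config_card cf
  rw [hcardQ, hE, hYeq]
  obtain ⟨m, rfl⟩ : ∃ m, p = m + 2 := ⟨p - 2, by omega⟩
  have e1 : m + 2 - 1 = m + 1 := by omega
  rw [e1, Nat.add_sub_cancel]; ring

theorem exp_two (mc : MC p P k) {Y : Subgroup G} {Q : Sylow 2 G} {g₁ : G}
    (cf : Config p P 2 Y Q g₁) (hp2 : p ≠ 2) (hY : 2 ≤ Nat.card Y)
    (hsurj : ∀ x ∈ Q, x ≠ 1 → ∃ i < p, ∃ y ∈ Y, y ≠ 1 ∧ x = g₁ ^ i * y * (g₁ ^ i)⁻¹) :
    ∀ x ∈ Q, x ^ 2 = 1 := by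
  have h2p : (2 : ℕ) ≠ p := fun h => hp2 h.symm
  have hQc := mc.sylow_comm h2p Q
  have hα : ∀ x ∈ Q, x ≠ 1 → ∃ i < p, x ∈ cj (g₁ ^ i) Y := by
    intro x hx hx1
    obtain ⟨i, hi, y, hy, -, rfl⟩ := hsurj x hx hx1
    exact ⟨i, hi, conj_mem_cj hy⟩
  have hβ : ∀ i < p, ∀ i' < p, ∀ x, x ≠ 1 → x ∈ cj (g₁ ^ i) Y → x ∈ cj (g₁ ^ i') Y →
      i = i' := by
    intro i hi i' hi' x hx1 hxi hxi'
    rw [mem_cj] at hxi hxi'
    have e1 : x = g₁ ^ i * ((g₁ ^ i)⁻¹ * x * g₁ ^ i) * (g₁ ^ i)⁻¹ := by group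
    have e2 : x = g₁ ^ i' * ((g₁ ^ i')⁻¹ * x * g₁ ^ i') * (g₁ ^ i')⁻¹ := by group
    have hne : (g₁ ^ i)⁻¹ * x * g₁ ^ i ≠ 1 := by
      intro h; apply hx1; rw [e1, h]; group
    exact (mc.config_inj h2p cf i hi i' hi' _ hxi _ hxi' hne (e1.symm.trans e2)).1
  have hsub : ∀ i, cj (g₁ ^ i) Y ≤ Q := by
    intro i x hx
    rw [mem_cj] at hx
    have e1 : x = g₁ ^ i * ((g₁ ^ i)⁻¹ * x * g₁ ^ i) * (g₁ ^ i)⁻¹ := by group
    rw [e1]; exact cf.conj_mem i hx
  have d1 : ∀ i < p, ∀ i' < p, i ≠ i' → ∀ x ∈ cj (g₁ ^ i) Y, ∀ x' ∈ cj (g₁ ^ i') Y,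
      x' ≠ 1 → x ^ orderOf x' = 1 := by
    intro i hi i' hi' hii x hx x' hx' hx'1
    by_contra hxm
    have hxQ := hsub i hx
    have hx'Q := hsub i' hx'
    have hz1 : x * x' ≠ 1 := by
      intro h
      have e : x' = x⁻¹ := (eq_inv_of_mul_eq_one_right h)
      exact hii (hβ i hi i' hi' x' hx'1 (e ▸ inv_mem hx) hx')
    obtain ⟨l, hl, hzl⟩ := hα (x * x') (mul_mem hxQ hx'Q) hz1
    have hcomm : Commute x x' := comm_of_isMulCommutative hQc hxQ hx'Q
    have hzm : (x * x') ^ orderOf x' = x ^ orderOf x' := by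
      rw [hcomm.mul_pow, pow_orderOf_eq_one, mul_one]
    have hli : l = i := hβ l hl i hi (x ^ orderOf x') hxm (hzm ▸ pow_mem hzl _) (pow_mem hx _)
    subst hli
    have hx'l : x' ∈ cj (g₁ ^ l) Y := by
      have e : x' = x⁻¹ * (x * x') := by group
      rw [e]; exact mul_mem (inv_mem hx) hzl
    exact hii (hβ l hi i' hi' x' hx'1 hx'l hx')
  have h2Q : 2 ∣ Nat.card (Q : Subgroup G) := by
    obtain ⟨n, hn⟩ := IsPGroup.iff_card.mp Q.isPGroup'
    have hle := Subgroup.card_le_of_le cf.YQ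
    rcases Nat.eq_zero_or_pos n with h0 | h0
    · rw [hn, h0, pow_zero] at hle; omega
    · rw [hn]; exact dvd_pow_self 2 h0.ne'
  obtain ⟨s, hsQ, hso⟩ := exists_mem_orderOf (Q : Subgroup G) 2 h2Q
  have hs1 : s ≠ 1 := by rintro rfl; rw [orderOf_one] at hso; omega
  obtain ⟨is, his, hsis⟩ := hα s hsQ hs1
  obtain ⟨y₀, hy₀, hy₀1⟩ : ∃ y₀ ∈ Y, y₀ ≠ 1 := by
    by_contra hcon
    push Not at hcon
    have hbot : Y = ⊥ := by rw [eq_bot_iff]; intro y hy; rw [mem_bot]; exact hcon y hy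
    rw [hbot, Subgroup.card_bot] at hY
    omega
  intro x hx
  by_cases hx1 : x = 1
  · rw [hx1, one_pow]
  obtain ⟨i, hi, hxi⟩ := hα x hx hx1
  by_cases hiis : i = is
  · subst hiis
    obtain ⟨i', hi', hne⟩ : ∃ i' < p, i ≠ i' := by
      have := hp.out.two_le
      by_cases h0 : i = 0
      · exact ⟨1, by omega, by omega⟩
      · exact ⟨0, by omega, h0⟩
    obtain ⟨x', hx'⟩ : ∃ x', x' = g₁ ^ i' * y₀ * (g₁ ^ i')⁻¹ := ⟨_, rfl⟩
    have hx'm : x' ∈ cj (g₁ ^ i') Y := by rw [hx']; exact conj_mem_cj hy₀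
    have hx'1 : x' ≠ 1 := by
      intro h; apply hy₀1
      have e : y₀ = (g₁ ^ i')⁻¹ * x' * g₁ ^ i' := by rw [hx']; group
      rw [e, h]; group
    have h1 := d1 i' hi' i hi (Ne.symm hne) x' hx'm s hsis hs1
    rw [hso] at h1
    have hx'o : orderOf x' = 2 := orderOf_eq_prime h1 hx'1
    have h2 := d1 i hi i' hi' hne x hxi x' hx'm hx'1
    rwa [hx'o] at h2
  · have h1 := d1 i hi is his hiis x hxi s hsis hs1
    rwa [hso] at h1

theorem invert (mc : MC p P k) (hp2 : p ≠ 2) {x : G}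
    (hxN : x ∈ normalizer ((P : Subgroup G) : Set G)) (hx2 : x ^ 2 = 1)
    (hxC : x ∉ centralizer ((P : Subgroup G) : Set G)) : ∀ h ∈ P, x * h * x⁻¹ = h⁻¹ := by
  intro h hh
  have hxh : x * h * x⁻¹ ∈ P := conj_mem_of_mem_normalizer hxN hh
  obtain ⟨u, hu⟩ : ∃ u, u = h * (x * h * x⁻¹) := ⟨_, rfl⟩
  have huP : u ∈ P := by rw [hu]; exact mul_mem hh hxh
  have hxx : x * x = 1 := by rw [← pow_two]; exact hx2
  have hfix : x * u * x⁻¹ = u := by
    have e : x * u * x⁻¹ = (x * h * x⁻¹) * (x * x * h * (x * x)⁻¹) := by rw [hu]; group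
    rw [e, hxx, hu]
    simp only [one_mul, inv_one, mul_one]
    exact mc.pcomm hxh hh
  by_contra hne
  have hu1 : u ≠ 1 := by
    intro h1
    apply hne
    rw [hu] at h1
    exact eq_inv_of_mul_eq_one_right h1
  have := mc.cyc
  have hcop : Nat.Coprime 2 p := by
    rw [Nat.coprime_comm, Nat.Prime.coprime_iff_not_dvd hp.out]
    intro hd
    exact hp2 ((Nat.prime_dvd_prime_iff_eq hp.out Nat.prime_two).mp hd)
  have hall := cent_of_fix (P : Subgroup G) P.isPGroup'
    (fun h hh => conj_mem_of_mem_normalizer hxN hh) hcop hx2 huP hu1 hfix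
  apply hxC
  rw [mem_centralizer_iff]
  intro z hz
  have h3 := hall z hz
  calc z * x = x * z * x⁻¹ * x := by rw [h3]
    _ = x * z := by group

theorem p_eq_three (mc : MC p P k) {Y : Subgroup G} {Q : Sylow 2 G} {g₁ : G}
    (cf : Config p P 2 Y Q g₁) (hp2 : p ≠ 2)
    (hE : (centralizer ((P : Subgroup G) : Set G)).relIndex (Q : Subgroup G) = p - 1)
    (hexp : ∀ x ∈ Q, x ^ 2 = 1) : p = 3 := by
  have hp2' := hp.out.two_le
  have hne : (centralizer ((P : Subgroup G) : Set G)).relIndex (Q : Subgroup G) ≠ 1 := by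
    rw [hE]; omega
  have hnot : ¬ (Q : Subgroup G) ≤ centralizer ((P : Subgroup G) : Set G) :=
    fun h => hne (relIndex_eq_one.mpr h)
  obtain ⟨a, haQ, haC⟩ := SetLike.not_le_iff_exists.mp hnot
  have h2 : (centralizer ((P : Subgroup G) : Set G)).relIndex (Q : Subgroup G) = 2 := by
    rw [relIndex_eq_two_iff]
    refine ⟨a, haQ, fun b hb => ?_⟩
    by_cases hbC : b ∈ centralizer ((P : Subgroup G) : Set G)
    · right
      refine ⟨hbC, fun h => haC ?_⟩
      have e : a = b⁻¹ * (b * a) := by group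
      rw [e]; exact mul_mem (inv_mem hbC) h
    · left
      refine ⟨?_, hbC⟩
      have ha := mc.invert hp2 (cf.QN haQ) (hexp a haQ) haC
      have hb' := mc.invert hp2 (cf.QN hb) (hexp b hb) hbC
      rw [mem_centralizer_iff]
      intro z hz
      have h1 : a * z * a⁻¹ = z⁻¹ := ha z hz
      have h2 : b * z⁻¹ * b⁻¹ = z⁻¹⁻¹ := hb' z⁻¹ (inv_mem hz)
      have h3 : b * a * z * (b * a)⁻¹ = z := by
        have e : b * a * z * (b * a)⁻¹ = b * (a * z * a⁻¹) * b⁻¹ := by group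
        rw [e, h1, h2, inv_inv]
      calc z * (b * a) = b * a * z * (b * a)⁻¹ * (b * a) := by rw [h3]
        _ = b * a * z := by group
  omega

theorem ti_cent (mc : MC p P k) {g x : G} (hx : x ∈ centralizer ((P : Subgroup G) : Set G))
    (hx1 : x ≠ 1) (hgx : g * x * g⁻¹ ∈ centralizer ((P : Subgroup G) : Set G)) :
    g ∈ normalizer ((P : Subgroup G) : Set G) := by
  obtain ⟨a, b, ha, hb, hxab, ⟨j, hj⟩, hbo⟩ := exists_parts p x
  have hzC : zpowers x ≤ centralizer ((P : Subgroup G) : Set G) := by rw [zpowers_le]; exact hx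
  have hzgC : ∀ z ∈ zpowers x, g * z * g⁻¹ ∈ centralizer ((P : Subgroup G) : Set G) := by
    intro z hz
    obtain ⟨i, rfl⟩ := mem_zpowers_iff.mp hz
    rw [← conj_zpow]
    exact zpow_mem hgx i
  by_cases hb1 : b = 1
  · have hxa : x = a := by rw [hxab, hb1, mul_one]
    have hxP : x ∈ P := by
      rw [hxa]; exact mem_sylow_of_normalizer P (centralizer_le_normalizer _ (hzC ha)) hj
    have hgxP : g * x * g⁻¹ ∈ P := by
      apply mem_sylow_of_normalizer P (centralizer_le_normalizer _ hgx) (j := j)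
      rw [← conj_pow_eq, hxa, hj]; simp
    exact mc.ti hxP hx1 hgxP
  · exact mc.k2 (hzC hb) hbo hb1 (hzgC b hb)

theorem even_dvd (mc : MC p P k)
    (hN : Nat.card (normalizer ((P : Subgroup G) : Set G)) = 4 * Nat.card (P : Subgroup G))
    (hp2 : p ≠ 2) {y : G} (hyC : y ∈ centralizer ((P : Subgroup G) : Set G)) (hy1 : y ≠ 1)
    (hy2 : y ^ 2 = 1) :
    ∀ H : Subgroup G, H ≠ ⊤ → y ∈ H → Nat.card H ∣ 4 * Nat.card (P : Subgroup G) := by
  intro H hH hyH
  have hcop2 : Nat.Coprime 2 p := by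
    rw [Nat.coprime_comm, Nat.Prime.coprime_iff_not_dvd hp.out]
    intro hd
    exact hp2 ((Nat.prime_dvd_prime_iff_eq hp.out Nat.prime_two).mp hd)
  have hyo : (orderOf y).Coprime p :=
    Nat.Coprime.coprime_dvd_left (orderOf_dvd_of_pow_eq_one hy2) hcop2
  have hcy := mc.cent_p'_le_norm hyC hyo hy1
  have abel_case : ∀ W : Subgroup G, ¬ p ∣ Nat.card W → y ∈ W →
      Nat.card W ∣ Nat.card (normalizer ((P : Subgroup G) : Set G)) := by
    intro W hW hyW
    apply Subgroup.card_dvd_of_le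
    refine le_trans ?_ hcy
    intro w hw
    rw [mem_centralizer_iff]
    intro z hz; rw [Set.mem_singleton_iff] at hz; rw [hz]
    exact comm_of_isMulCommutative (mc.hab W hW) hyW hw
  rcases mc.dich H hH with ⟨W, hWH, hHW, hWp, ⟨j, hj⟩, hall⟩ | ⟨D, hDH, hHD, hDp, hall⟩
  · have hyW : y ∈ W := hall y hyH hyo
    have h1 := abel_case W hWp hyW
    rw [hN] at h1
    obtain ⟨n, hn⟩ := IsPGroup.iff_card.mp P.isPGroup'
    have hcop : Nat.Coprime (Nat.card W) (Nat.card (P : Subgroup G)) := by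
      rw [hn]
      exact (Nat.Coprime.pow_left n ((Nat.Prime.coprime_iff_not_dvd hp.out).mpr hWp)).symm
    have h2 : Nat.card W ∣ 4 := hcop.dvd_of_dvd_mul_right h1
    have h3 : p ^ j ∣ Nat.card (P : Subgroup G) := by
      apply P.pow_dvd_card_of_pow_dvd_card
      exact (Dvd.intro_left _ hj.symm).trans (Subgroup.card_subgroup_dvd_card H)
    rw [hj]
    exact Nat.mul_dvd_mul h2 h3
  · by_cases hD1 : D = ⊥
    · have hHp : ¬ p ∣ Nat.card H := by
        intro hdvd
        obtain ⟨x, hxH, hxo⟩ := exists_mem_orderOf H p hdvd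
        have hxD : x ∈ D := hall x hxH 1 (by rw [pow_one, ← hxo]; exact pow_orderOf_eq_one x)
        rw [hD1, mem_bot] at hxD
        rw [hxD, orderOf_one] at hxo
        exact hp.out.ne_one hxo.symm
      have h1 := abel_case H hHp hyH
      rwa [hN] at h1
    · obtain ⟨g, hg⟩ := exists_conj_le_sylow P hDp
      have hD'P : cj g⁻¹ D ≤ P := by
        intro x hx
        rw [mem_cj, inv_inv] at hx
        have h1 := hg _ hx
        have e : g⁻¹ * (g * x * g⁻¹) * g = x := by group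
        rwa [e] at h1
      have hD'1 : cj g⁻¹ D ≠ ⊥ := by
        intro h
        apply hD1
        have hc := card_cj g⁻¹ D
        rw [h, Subgroup.card_bot] at hc
        exact Subgroup.card_eq_one.mp hc.symm
      have h1 := (cj_normalizer_le (g := g⁻¹) hHD).trans (mc.norm_le_of_le hD'P hD'1)
      have h2 := Subgroup.card_dvd_of_le h1
      rwa [card_cj, hN] at h2

/-- the minimal counterexample satisfies the hypotheses of the `3`-local nonsimplicity
criterion S4018 -/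
theorem final (mc : MC p P k) : p = 3 ∧
    Nat.card (normalizer ((P : Subgroup G) : Set G)) = 4 * Nat.card (P : Subgroup G) ∧
    Nat.card (centralizer ((P : Subgroup G) : Set G)) = 2 * Nat.card (P : Subgroup G) ∧
    (∀ g : G, g ∉ normalizer ((centralizer ((P : Subgroup G) : Set G) : Subgroup G) : Set G) →
      ∀ x ∈ centralizer ((P : Subgroup G) : Set G),
        g * x * g⁻¹ ∈ centralizer ((P : Subgroup G) : Set G) → x = 1) ∧
    (∀ H : Subgroup G, H ≠ ⊤ → 2 ∣ Nat.card H →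
      Nat.card H ∣ 4 * Nat.card (P : Subgroup G)) := by
  obtain ⟨Y, Q, g₁, cf, hp2, he, hYc, hc, hsurj⟩ := mc.final_config
  have h2p : (2 : ℕ) ≠ p := fun h => hp2 h.symm
  have hp2' := hp.out.two_le
  have hY2 : 2 ≤ Nat.card Y := by rw [hYc]; omega
  have hexp := mc.exp_two cf hp2 hY2 hsurj
  obtain ⟨hE, -, -, -⟩ := mc.config_arith h2p cf hY2
  have hp3 := mc.p_eq_three cf hp2 hE hexp
  have hp1 : p - 1 = 2 := by omega
  have hC : Nat.card (centralizer ((P : Subgroup G) : Set G)) =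
      2 * Nat.card (P : Subgroup G) := by
    rw [← mc.card_cent, hc, hp1]; ring
  have hN : Nat.card (normalizer ((P : Subgroup G) : Set G)) =
      4 * Nat.card (P : Subgroup G) := by
    rw [← mc.card_norm, he, hC, hp1]; ring
  refine ⟨hp3, hN, hC, ?_, ?_⟩
  · intro g hg x hx hgx
    by_contra hx1
    exact hg (normalizer_le_normalizer_centralizer _ (mc.ti_cent hx hx1 hgx))
  · intro H hH h2H
    obtain ⟨s, hsH, hso⟩ := exists_mem_orderOf H 2 h2H
    have hs1 : s ≠ 1 := by rintro rfl; rw [orderOf_one] at hso; omega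
    have hs2 : s ^ 2 ^ 1 = 1 := by rw [pow_one, ← hso]; exact pow_orderOf_eq_one s
    obtain ⟨g, hg⟩ := exists_conj_le_sylow Q (N22.isPGroup_zpowers 2 s 1 hs2)
    have hgs : g⁻¹ * s * g ∈ Q := hg s (mem_zpowers s)
    have hgs1 : g⁻¹ * s * g ≠ 1 := by
      intro h; apply hs1
      have e : s = g * (g⁻¹ * s * g) * g⁻¹ := by group
      rw [e, h]; group
    obtain ⟨i, hi, y, hy, hy1, hxy⟩ := hsurj _ hgs hgs1
    obtain ⟨a, ha⟩ : ∃ a, a = (g * g₁ ^ i)⁻¹ := ⟨_, rfl⟩
    have hya : a * s * a⁻¹ = y := by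
      have e : a * s * a⁻¹ = (g₁ ^ i)⁻¹ * (g⁻¹ * s * g) * g₁ ^ i := by rw [ha]; group
      rw [e, hxy]; group
    have hy2 : y ^ 2 = 1 := by
      rw [← hya, ← conj_pow_eq, ← hso, pow_orderOf_eq_one]; simp
    have hyH' : y ∈ cj a H := by rw [← hya]; exact conj_mem_cj hsH
    have h1 := mc.even_dvd hN hp2 (cf.YC hy) hy1 hy2 (cj a H) (cj_ne_top hH) hyH'
    rwa [card_cj] at h1

end MC

end Cfsg.Agent.Lib.Helper76.CS
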