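import Mathlib
import Cfsg.Agent.Lib.Helper48.QADefs
import Cfsg.Prelude.Def_Transfer

/-! S2787 piece QA-RHOb (project QA of helper48; job 4498, proved by helper76; backup of QA-RHO):
the conjugation action of `H ≤ N(V)` on an elementary abelian `V` as a homomorphism into the units of
the finite ring `AddMonoid.End (Additive V)`. -/

set_option autoImplicit false
set_option linter.unusedSectionVars false

universe u

namespace Cfsg.Agent.Lib.Helper48.QA

open Matrix Polynomial

local notation "SL2" F => Matrix.SpecialLinearGroup (Fin 2) F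
local notation "PSL2" F => Matrix.ProjectiveSpecialLinearGroup (Fin 2) F
local notation "M2" F => Matrix (Fin 2) (Fin 2) F

section rhob
open scoped IsMulCommutative

variable {G : Type u} [Group G] (V H : Subgroup G) [IsMulCommutative ↥V]
  (hHV : H ≤ Subgroup.normalizer (V : Set G))

omit [IsMulCommutative ↥V] in
include hHV in
theorem rhob_mem (h : ↥H) (v : ↥V) : (h : G) * (v : G) * (h : G)⁻¹ ∈ V := by
  have h1 := hHV h.2
  rw [Subgroup.mem_normalizer_iff] at h1
  exact (h1 v).1 v.2

/-- conjugation by `h` as an endomorphism of `Additive V` -/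
def rhobEnd (h : ↥H) : AddMonoid.End (Additive ↥V) :=
  AddMonoidHom.mk'
    (fun v => Additive.ofMul
      (⟨(h : G) * ((Additive.toMul v : ↥V) : G) * (h : G)⁻¹,
        rhob_mem V H hHV h (Additive.toMul v)⟩ : ↥V))
    (by
      intro v w
      apply Additive.toMul.injective
      apply Subtype.ext
      simp [mul_assoc])

theorem rhobEnd_apply (h : ↥H) (v : Additive ↥V) :
    ((Additive.toMul (rhobEnd V H hHV h v) : ↥V) : G) =
      (h : G) * ((Additive.toMul v : ↥V) : G) * (h : G)⁻¹ := rfl

theorem rhob_mul_apply {M : Type*} [AddZeroClass M] (f g : AddMonoid.End M) (v : M) :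
    (f * g) v = f (g v) := rfl

theorem rhob_one_apply {M : Type*} [AddZeroClass M] (v : M) : (1 : AddMonoid.End M) v = v := rfl

theorem rhob_sub_apply {M : Type*} [AddCommGroup M] (f g : AddMonoid.End M) (v : M) :
    (f - g) v = f v - g v := rfl

/-- the conjugation action as a monoid homomorphism -/
def rhobHom : ↥H →* AddMonoid.End (Additive ↥V) where
  toFun := rhobEnd V H hHV
  map_one' := by
    ext v
    rw [rhobEnd_apply]
    simp
  map_mul' h h' := by
    ext v
    rw [rhobEnd_apply, rhob_mul_apply, rhobEnd_apply, rhobEnd_apply]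
    simp [mul_assoc]

theorem rhobHom_apply (h : ↥H) (v : Additive ↥V) :
    ((Additive.toMul (rhobHom V H hHV h v) : ↥V) : G) =
      (h : G) * ((Additive.toMul v : ↥V) : G) * (h : G)⁻¹ := rfl

end rhob

open scoped IsMulCommutative commutatorElement in
/-- QA-RHO -/
theorem exists_rho {G : Type u} [Group G] [Finite G] {p : ℕ} [Fact p.Prime] (V H : Subgroup G)
    (hV : Cfsg.IsElementaryAbelian p V) (hHV : H ≤ Subgroup.normalizer (V : Set G)) :
    ∃ (R : Type u) (_ : Ring R) (_ : Finite R) (ρ : ↥H →* Rˣ), ((p : ℕ) : R) = 0 ∧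
      ρ.ker = (Subgroup.centralizer (V : Set G)).subgroupOf H ∧
      ∀ (A : Subgroup G) (hA : A ≤ H), ⁅⁅V, A⁆, A⁆ = ⊥ → ∀ a : ↥A,
        (((ρ ⟨a.1, hA a.2⟩ : Rˣ) : R) - 1) * (((ρ ⟨a.1, hA a.2⟩ : Rˣ) : R) - 1) = 0 := by
  obtain ⟨hcomm, hexp⟩ := hV
  have : IsMulCommutative ↥V := hcomm
  refine ⟨AddMonoid.End (Additive ↥V), inferInstance, ?_, (rhobHom V H hHV).toHomUnits, ?_, ?_, ?_⟩
  · exact Finite.of_injective
      (fun f : AddMonoid.End (Additive ↥V) => (f : Additive ↥V → Additive ↥V))
      DFunLike.coe_injective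
  · refine DFunLike.ext _ _ (fun v => ?_)
    rw [AddMonoid.End.natCast_apply]
    apply Additive.toMul.injective
    apply Subtype.ext
    have h1 := hexp (Additive.toMul v : ↥V) (Additive.toMul v : ↥V).2
    simpa using h1
  · ext h
    rw [MonoidHom.mem_ker, Subgroup.mem_subgroupOf, Subgroup.mem_centralizer_iff]
    constructor
    · intro h1 v hv
      have h2 : rhobHom V H hHV h = 1 := by
        have h3 := congrArg
          (fun u : (AddMonoid.End (Additive ↥V))ˣ => (u : AddMonoid.End (Additive ↥V))) h1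
        simpa [MonoidHom.coe_toHomUnits] using h3
      have h3 := rhobHom_apply V H hHV h (Additive.ofMul ⟨v, hv⟩)
      rw [h2, rhob_one_apply] at h3
      simp only [toMul_ofMul] at h3
      calc v * (h : G) = (h : G) * v * (h : G)⁻¹ * (h : G) := by rw [← h3]
        _ = (h : G) * v := by group
    · intro h1
      apply Units.ext
      rw [MonoidHom.coe_toHomUnits]
      refine DFunLike.ext _ _ (fun v => ?_)
      apply Additive.toMul.injective
      apply Subtype.ext
      rw [rhobHom_apply]
      have h2 := h1 ((Additive.toMul v : ↥V) : G) (Additive.toMul v : ↥V).2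
      rw [← h2]
      simp [rhob_one_apply]
  · intro A hA hq a
    refine DFunLike.ext _ _ (fun v => ?_)
    rw [rhob_mul_apply, MonoidHom.coe_toHomUnits, rhob_sub_apply, rhob_sub_apply, rhob_one_apply,
      rhob_one_apply]
    apply Additive.toMul.injective
    apply Subtype.ext
    -- the commutators
    have hv : ((Additive.toMul v : ↥V) : G) ∈ V := (Additive.toMul v : ↥V).2
    have hc1 : ⁅(a : G), ((Additive.toMul v : ↥V) : G)⁆ ∈ ⁅V, A⁆ := by
      rw [Subgroup.commutator_comm]
      exact Subgroup.commutator_mem_commutator a.2 hv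
    have hc2 : ⁅(a : G), ⁅(a : G), ((Additive.toMul v : ↥V) : G)⁆⁆ ∈ ⁅⁅V, A⁆, A⁆ := by
      rw [Subgroup.commutator_comm]
      exact Subgroup.commutator_mem_commutator a.2 hc1
    rw [hq, Subgroup.mem_bot] at hc2
    simp only [toMul_sub, Subgroup.coe_div, map_sub]
    have e0 : ((Additive.toMul ((0 : AddMonoid.End (Additive ↥V)) v) : ↥V) : G) = 1 := rfl
    rw [e0, rhobHom_apply, rhobHom_apply, ← hc2, commutatorElement_def, commutatorElement_def]
    simp only [div_eq_mul_inv]
    group

end Cfsg.Agent.Lib.Helper48.QA
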