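import Mathlib

/-!
# Two-elements of symmetric groups in a unique Sylow 2-subgroup: combinatorial core
(helper76, for S4349)

`Par y u v`: the points `u`, `v` lie in different cycles of `y` of the same length.
`Bad y`: some point has two different parallel partners.
-/

set_option autoImplicit false
set_option linter.unusedSectionVars false
set_option linter.unusedVariables false

namespace Cfsg.Agent.Lib.Helper76.SS

open Equiv Function

section defs

variable {A B : Type*}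

/-- `u`, `v` lie in different cycles of `y` of the same length -/
def Par (y : Perm A) (u v : A) : Prop :=
  ¬ y.SameCycle u v ∧ minimalPeriod y u = minimalPeriod y v

/-- some point has two different parallel partners -/
def Bad (y : Perm A) : Prop :=
  ∃ u v v', v ≠ v' ∧ Par y u v ∧ Par y u v'

theorem pow_fix_iff (y : Perm A) (u : A) (k : ℕ) :
    (y ^ k) u = u ↔ minimalPeriod y u ∣ k := by
  rw [← isPeriodicPt_iff_minimalPeriod_dvd, IsPeriodicPt, IsFixedPt, Equiv.Perm.iterate_eq_pow]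

theorem zpow_fix_iff (y : Perm A) (u : A) (k : ℤ) :
    (y ^ k) u = u ↔ (minimalPeriod y u : ℤ) ∣ k :=
  MulAction.zpow_smul_eq_iff_period_dvd (g := y) (a := u)

theorem per_eq_of {y : Perm A} {z : Perm B} {u : A} {v : B}
    (h : ∀ k : ℕ, (y ^ k) u = u ↔ (z ^ k) v = v) : minimalPeriod y u = minimalPeriod z v := by
  apply Nat.dvd_antisymm
  · rw [← pow_fix_iff, h, pow_fix_iff]
  · rw [← pow_fix_iff, ← h, pow_fix_iff]

theorem sim_inv (φ : A → B) {y : Perm A} {z : Perm B} (h : ∀ a, φ (y a) = z (φ a)) :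
    ∀ a, φ (y⁻¹ a) = z⁻¹ (φ a) := by
  intro a
  rw [Perm.eq_inv_iff_eq, ← h]
  simp

theorem sim_pow (φ : A → B) {y : Perm A} {z : Perm B} (h : ∀ a, φ (y a) = z (φ a)) (k : ℕ) :
    ∀ a, φ ((y ^ k) a) = (z ^ k) (φ a) := by
  induction k with
  | zero => intro a; simp
  | succ k ih => intro a; rw [pow_succ, pow_succ, Perm.mul_apply, Perm.mul_apply, ih, h]

theorem sim_zpow (φ : A → B) {y : Perm A} {z : Perm B} (h : ∀ a, φ (y a) = z (φ a)) (k : ℤ) :
    ∀ a, φ ((y ^ k) a) = (z ^ k) (φ a) := by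
  cases k with
  | ofNat k => simpa using sim_pow φ h k
  | negSucc k =>
    rw [zpow_negSucc, zpow_negSucc]
    exact sim_inv φ (sim_pow φ h (k + 1))

theorem per_comm {y : Perm A} {f : A → A} (hf : Injective f) (h : ∀ a, f (y a) = y (f a))
    (u : A) : minimalPeriod y (f u) = minimalPeriod y u :=
  per_eq_of (fun k => by rw [← sim_pow f h]; exact hf.eq_iff)

theorem sameCycle_fixed {y : Perm A} {u v : A} (hu : y u = u) (h : y.SameCycle u v) : v = u := by
  obtain ⟨k, hk⟩ := h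
  rw [← hk]
  exact Equiv.Perm.zpow_apply_eq_self_of_apply_eq_self hu k

theorem Par.of_injective {φ : A → B} (hφ : Injective φ) {y : Perm A} {z : Perm B}
    (h : ∀ a, φ (y a) = z (φ a)) {u v : A} (hp : Par y u v) : Par z (φ u) (φ v) := by
  have e : ∀ w, minimalPeriod z (φ w) = minimalPeriod y w := fun w =>
    per_eq_of (fun k => by rw [← sim_pow φ h]; exact hφ.eq_iff)
  refine ⟨fun ⟨k, hk⟩ => hp.1 ⟨k, hφ ?_⟩, ?_⟩
  · rw [sim_zpow φ h, hk]
  · rw [e, e]; exact hp.2

theorem Bad.of_injective {φ : A → B} (hφ : Injective φ) {y : Perm A} {z : Perm B}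
    (h : ∀ a, φ (y a) = z (φ a)) (hb : Bad y) : Bad z := by
  obtain ⟨u, v, v', hne, h1, h2⟩ := hb
  exact ⟨φ u, φ v, φ v', fun e => hne (hφ e), h1.of_injective hφ h, h2.of_injective hφ h⟩

theorem dvd_add_of_dvd_two_mul {p i j : ℕ} (hi : p ∣ 2 * i) (hi' : ¬ p ∣ i) (hj : p ∣ 2 * j)
    (hj' : ¬ p ∣ j) : p ∣ i + j := by
  obtain ⟨c, hc⟩ := hi
  obtain ⟨d, hd⟩ := hj
  rcases Nat.even_or_odd' c with ⟨c', rfl | rfl⟩
  · exact absurd ⟨c', by
      have : 2 * i = 2 * (p * c') := by rw [hc]; ring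
      omega⟩ hi'
  rcases Nat.even_or_odd' d with ⟨d', rfl | rfl⟩
  · exact absurd ⟨d', by
      have : 2 * j = 2 * (p * d') := by rw [hd]; ring
      omega⟩ hj'
  refine ⟨c' + d' + 1, ?_⟩
  have : 2 * (i + j) = 2 * (p * (c' + d' + 1)) := by rw [mul_add, hc, hd]; ring
  omega

/-- two involutions commuting with a good permutation agree wherever both move a point -/
theorem agree [Finite A] {y : Perm A} (hy : ¬ Bad y) {n n' : Perm A} (hn : n * n = 1)
    (hn' : n' * n' = 1) (hc : n * y = y * n) (hc' : n' * y = y * n') {ω : A}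
    (h : n ω ≠ ω) (h' : n' ω ≠ ω) : n ω = n' ω := by
  by_contra hne
  have c1 : ∀ a, n (y a) = y (n a) := fun a => by
    have := congrArg (fun f : Perm A => f a) hc; simpa using this
  have c2 : ∀ a, n' (y a) = y (n' a) := fun a => by
    have := congrArg (fun f : Perm A => f a) hc'; simpa using this
  have i1 : ∀ a, n (n a) = a := fun a => by
    have := congrArg (fun f : Perm A => f a) hn; simpa using this
  have i2 : ∀ a, n' (n' a) = a := fun a => by
    have := congrArg (fun f : Perm A => f a) hn'; simpa using this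
  have p1 : minimalPeriod y (n ω) = minimalPeriod y ω := per_comm n.injective c1 ω
  have p2 : minimalPeriod y (n' ω) = minimalPeriod y ω := per_comm n'.injective c2 ω
  have pery : ∀ a, minimalPeriod y (y a) = minimalPeriod y a :=
    per_comm y.injective (fun _ => rfl)
  by_cases hω : y ω = ω
  · -- three fixed points
    refine hy ⟨ω, n ω, n' ω, hne, ⟨fun hsc => h (sameCycle_fixed hω hsc), p1.symm⟩,
      ⟨fun hsc => h' (sameCycle_fixed hω hsc), p2.symm⟩⟩
  · -- both in the cycle of ω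
    have key : ∀ m : Perm A, (∀ a, m (y a) = y (m a)) → y.SameCycle ω (m ω) := by
      intro m cm
      by_contra hsc
      refine hy ⟨ω, m ω, y (m ω), ?_, ⟨hsc, (per_comm m.injective cm ω).symm⟩,
        ⟨by rwa [Perm.sameCycle_apply_right], by rw [pery, per_comm m.injective cm ω]⟩⟩
      intro e
      rw [← cm] at e
      exact hω (m.injective e.symm)
    obtain ⟨i, -, hi⟩ := (key n c1).exists_pow_eq'
    obtain ⟨j, -, hj⟩ := (key n' c2).exists_pow_eq'
    have hi2 : minimalPeriod y ω ∣ 2 * i := by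
      rw [← pow_fix_iff, two_mul, pow_add, Perm.mul_apply, hi, ← sim_pow n c1, hi, i1]
    have hj2 : minimalPeriod y ω ∣ 2 * j := by
      rw [← pow_fix_iff, two_mul, pow_add, Perm.mul_apply, hj, ← sim_pow n' c2, hj, i2]
    have hi1 : ¬ minimalPeriod y ω ∣ i := by rw [← pow_fix_iff, hi]; exact h
    have hj1 : ¬ minimalPeriod y ω ∣ j := by rw [← pow_fix_iff, hj]; exact h'
    have hij : (y ^ (i + j)) ω = ω := (pow_fix_iff y ω _).2 (dvd_add_of_dvd_two_mul hi2 hi1 hj2 hj1)
    have h2j : (y ^ (2 * j)) ω = ω := (pow_fix_iff y ω _).2 hj2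
    apply hne
    rw [← hi, ← hj]
    calc (y ^ i) ω = (y ^ i) ((y ^ (2 * j)) ω) := by rw [h2j]
      _ = (y ^ j) ((y ^ (i + j)) ω) := by
        rw [← Perm.mul_apply, ← Perm.mul_apply, ← pow_add, ← pow_add]
        congr 2; ring
      _ = (y ^ j) ω := by rw [hij]

/-- the involution glued from a set of pairwise-agreeing involutions -/
theorem exists_sigma (N : Set (Perm A)) (h2 : ∀ n ∈ N, n * n = 1)
    (hag : ∀ n ∈ N, ∀ n' ∈ N, ∀ ω, n ω ≠ ω → n' ω ≠ ω → n ω = n' ω) :
    ∃ σ : A → A, (∀ ω, σ (σ ω) = ω) ∧ (∀ n ∈ N, ∀ ω, n ω = ω ∨ n ω = σ ω) ∧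
      (∀ ω, σ ω ≠ ω → ∃ n ∈ N, n ω ≠ ω) ∧
      (∀ a : Perm A, (∀ n ∈ N, a * n * a⁻¹ ∈ N) → (∀ n ∈ N, a⁻¹ * n * a ∈ N) →
        ∀ ω, σ (a ω) = a (σ ω)) := by
  classical
  let σ : A → A := fun ω => if h : ∃ n ∈ N, n ω ≠ ω then (Classical.choose h) ω else ω
  have s1 : ∀ n ∈ N, ∀ ω, n ω ≠ ω → σ ω = n ω := by
    intro n hn ω hω
    have h : ∃ n ∈ N, n ω ≠ ω := ⟨n, hn, hω⟩
    have hs : σ ω = (Classical.choose h) ω := dif_pos h
    rw [hs]
    exact hag _ (Classical.choose_spec h).1 _ hn ω (Classical.choose_spec h).2 hω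
  have s0 : ∀ ω, (∀ n ∈ N, n ω = ω) → σ ω = ω := by
    intro ω hω
    have h : ¬ ∃ n ∈ N, n ω ≠ ω := by
      rintro ⟨n, hn, hnω⟩
      exact hnω (hω n hn)
    exact dif_neg h
  have s2 : ∀ n ∈ N, ∀ ω, n ω = ω ∨ n ω = σ ω := by
    intro n hn ω
    by_cases h : n ω = ω
    · exact Or.inl h
    · exact Or.inr (s1 n hn ω h).symm
  have s3 : ∀ ω, σ ω ≠ ω → ∃ n ∈ N, n ω ≠ ω := by
    intro ω hω
    by_contra hcon
    exact hω (s0 ω (fun n hn => by
      by_contra hnω
      exact hcon ⟨n, hn, hnω⟩))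
  refine ⟨σ, ?_, s2, s3, ?_⟩
  · intro ω
    by_cases h : ∃ n ∈ N, n ω ≠ ω
    · obtain ⟨n, hn, hω⟩ := h
      have e1 : σ ω = n ω := s1 n hn ω hω
      have e2 : n (n ω) = ω := by
        have := congrArg (fun f : Perm A => f ω) (h2 n hn); simpa using this
      rw [e1, s1 n hn (n ω) (by rw [e2]; exact fun e => hω e.symm), e2]
    · have h0 : ∀ n ∈ N, n ω = ω := fun n hn => by
        by_contra hnω
        exact h ⟨n, hn, hnω⟩
      rw [s0 ω h0, s0 ω h0]
  · intro a ha ha' ω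
    by_cases h : ∃ n ∈ N, n ω ≠ ω
    · obtain ⟨n, hn, hω⟩ := h
      rw [s1 n hn ω hω]
      have e : (a * n * a⁻¹) (a ω) = a (n ω) := by simp
      have hne : (a * n * a⁻¹) (a ω) ≠ a ω := by
        rw [e]; exact fun e' => hω (a.injective e')
      rw [s1 _ (ha n hn) (a ω) hne, e]
    · have h0 : ∀ n ∈ N, n ω = ω := fun n hn => by
        by_contra hnω
        exact h ⟨n, hn, hnω⟩
      rw [s0 ω h0]
      apply s0
      intro n hn
      have e := h0 _ (ha' n hn)
      have e' : (a⁻¹ * n * a) ω = a⁻¹ (n (a ω)) := by simp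
      rw [e', Perm.inv_eq_iff_eq] at e
      exact e

/-- badness passes up from the quotient by a fixed-point-free involution commuting with `y` -/
theorem Bad.of_quotient [Finite A] {φ : A → B} (hφ : Surjective φ) {y : Perm A} {z : Perm B}
    {s : A → A} (hs : ∀ a, s (s a) = a) (hs' : ∀ a, s a ≠ a) (hsy : ∀ a, s (y a) = y (s a))
    (hker : ∀ a b, φ a = φ b ↔ b = a ∨ b = s a) (h : ∀ a, φ (y a) = z (φ a)) (hb : Bad z) :
    Bad y := by
  have hsinj : Injective s := fun a b e => by rw [← hs a, e, hs]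
  have hφs : ∀ a, φ (s a) = φ a := fun a => ((hker a (s a)).2 (Or.inr rfl)).symm
  have sc1 : ∀ a b, y.SameCycle a b → z.SameCycle (φ a) (φ b) := fun a b ⟨k, hk⟩ =>
    ⟨k, by rw [← sim_zpow φ h, hk]⟩
  have nsc : ∀ a b, ¬ z.SameCycle (φ a) (φ b) → ¬ y.SameCycle a b := fun a b hn hsc =>
    hn (sc1 a b hsc)
  have hsk : ∀ (k : ℕ) a, s ((y ^ k) a) = (y ^ k) (s a) := sim_pow s hsy
  have pers : ∀ a, minimalPeriod y (s a) = minimalPeriod y a := per_comm hsinj hsy
  have pery : ∀ a, minimalPeriod y (y a) = minimalPeriod y a :=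
    per_comm y.injective (fun _ => rfl)
  -- type 1 points
  have T1 : ∀ a, ¬ y.SameCycle a (s a) → minimalPeriod y a = minimalPeriod z (φ a) := by
    intro a ha
    refine per_eq_of (fun k => ⟨fun e => by rw [← sim_pow φ h, e], fun e => ?_⟩)
    rw [← sim_pow φ h] at e
    rcases (hker a _).1 e.symm with e' | e'
    · exact e'
    · exact absurd ⟨(k : ℤ), by rw [zpow_natCast]; exact e'⟩ ha
  -- type 2 points
  have T2 : ∀ a, y.SameCycle a (s a) → minimalPeriod y a = 2 * minimalPeriod z (φ a) := by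
    intro a ha
    obtain ⟨k₀, -, hk₀⟩ := ha.exists_pow_eq'
    apply Nat.dvd_antisymm
    · rw [← pow_fix_iff]
      have hd : (z ^ minimalPeriod z (φ a)) (φ a) = φ a := (pow_fix_iff z (φ a) _).2 dvd_rfl
      rw [← sim_pow φ h] at hd
      rcases (hker a _).1 hd.symm with e | e
      · rw [two_mul, pow_add, Perm.mul_apply, e, e]
      · rw [two_mul, pow_add, Perm.mul_apply, e, ← hsk, e, hs]
    · have h2k : minimalPeriod y a ∣ 2 * k₀ := by
        rw [← pow_fix_iff, two_mul, pow_add, Perm.mul_apply, hk₀, ← hsk, hk₀, hs]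
      have hnk : ¬ minimalPeriod y a ∣ k₀ := by
        rw [← pow_fix_iff, hk₀]; exact hs' a
      obtain ⟨c, hc⟩ := h2k
      rcases Nat.even_or_odd' c with ⟨c', rfl | rfl⟩
      · exact absurd ⟨c', by
          have : 2 * k₀ = 2 * (minimalPeriod y a * c') := by rw [hc]; ring
          omega⟩ hnk
      · have h1 : 2 * k₀ = 2 * (minimalPeriod y a * c') + minimalPeriod y a := by rw [hc]; ring
        obtain ⟨q, hq⟩ : ∃ q, k₀ = q + minimalPeriod y a * c' :=
          ⟨k₀ - minimalPeriod y a * c', by omega⟩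
        have hp : minimalPeriod y a = 2 * q := by omega
        have e : (y ^ q) a = s a := by
          rw [← hk₀, hq, pow_add, Perm.mul_apply]
          congr 1
          exact ((pow_fix_iff y a _).2 (dvd_mul_right _ c')).symm
        have hdq : minimalPeriod z (φ a) ∣ q := by
          rw [← pow_fix_iff, ← sim_pow φ h, e, hφs]
        rw [hp]; exact Nat.mul_dvd_mul_left 2 hdq
  have nf : ∀ a, y.SameCycle a (s a) → y a ≠ a := fun a hsc e => hs' a (sameCycle_fixed e hsc)
  obtain ⟨ub, vb, vb', hne, ⟨hn1, hp1⟩, ⟨hn2, hp2⟩⟩ := hb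
  obtain ⟨u, rfl⟩ := hφ ub
  obtain ⟨v, rfl⟩ := hφ vb
  obtain ⟨v', rfl⟩ := hφ vb'
  have vne : v ≠ v' := fun e => hne (by rw [e])
  have hn1s : ¬ z.SameCycle (φ u) (φ (s v)) := by rw [hφs]; exact hn1
  have hn2s : ¬ z.SameCycle (φ u) (φ (s v')) := by rw [hφs]; exact hn2
  have huv : φ u ≠ φ v := fun e => hn1 (by rw [e])
  have huv' : φ u ≠ φ v' := fun e => hn2 (by rw [e])
  by_cases hu : y.SameCycle u (s u)
  · -- u of type 2
    by_cases hv : y.SameCycle v (s v)
    · exact ⟨u, v, y v, fun e => nf v hv e.symm, ⟨nsc u v hn1, by rw [T2 u hu, T2 v hv, hp1]⟩,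
        ⟨by rw [Perm.sameCycle_apply_right]; exact nsc u v hn1,
          by rw [pery, T2 u hu, T2 v hv, hp1]⟩⟩
    by_cases hv' : y.SameCycle v' (s v')
    · exact ⟨u, v', y v', fun e => nf v' hv' e.symm,
        ⟨nsc u v' hn2, by rw [T2 u hu, T2 v' hv', hp2]⟩,
        ⟨by rw [Perm.sameCycle_apply_right]; exact nsc u v' hn2,
          by rw [pery, T2 u hu, T2 v' hv', hp2]⟩⟩
    by_cases hvv' : y.SameCycle v v'
    · exact ⟨s v, v, v', vne, ⟨fun hsc => hv hsc.symm, pers v⟩,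
        ⟨fun hsc => hv (hvv'.trans hsc.symm), by rw [pers, T1 v hv, T1 v' hv', ← hp1, hp2]⟩⟩
    · refine ⟨v, s v, v', fun e => hne ?_, ⟨hv, (pers v).symm⟩,
        ⟨hvv', by rw [T1 v hv, T1 v' hv', ← hp1, hp2]⟩⟩
      rw [← e, hφs]
  · -- u of type 1
    have Psu : Par y u (s u) := ⟨hu, (pers u).symm⟩
    by_cases hv : y.SameCycle v (s v)
    swap
    · refine ⟨u, v, s u, fun e => huv ?_, ⟨nsc u v hn1, by rw [T1 u hu, T1 v hv, hp1]⟩, Psu⟩
      rw [e, hφs]
    by_cases hv' : y.SameCycle v' (s v')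
    swap
    · refine ⟨u, v', s u, fun e => huv' ?_, ⟨nsc u v' hn2, by rw [T1 u hu, T1 v' hv', hp2]⟩, Psu⟩
      rw [e, hφs]
    by_cases hvv' : y.SameCycle v v'
    · have hyu : y u ≠ u := by
        intro e
        have ez : z (φ u) = φ u := by rw [← h, e]
        have e1 : minimalPeriod z (φ u) = 1 := minimalPeriod_eq_one_iff_isFixedPt.2 ez
        rw [hp1] at e1
        have ezv : z (φ v) = φ v := minimalPeriod_eq_one_iff_isFixedPt.1 e1
        exact hne (sameCycle_fixed ezv (sc1 v v' hvv')).symm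
      refine ⟨u, s u, y (s u), fun e => hyu ?_, Psu,
        ⟨by rw [Perm.sameCycle_apply_right]; exact hu, by rw [pery, pers]⟩⟩
      rw [← hsy] at e
      exact (hsinj e).symm
    · exact ⟨v, v', y v', fun e => nf v' hv' e.symm,
        ⟨hvv', by rw [T2 v hv, T2 v' hv', ← hp1, hp2]⟩,
        ⟨by rw [Perm.sameCycle_apply_right]; exact hvv',
          by rw [pery, T2 v hv, T2 v' hv', ← hp1, hp2]⟩⟩

end defs

end Cfsg.Agent.Lib.Helper76.SS
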