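import Mathlib
import Cfsg.Agent.Lib.Helper76.SylSnA

/-!
# Two-elements of symmetric groups in a unique Sylow 2-subgroup: the normaliser claim
(helper76, for S4349)
-/

set_option autoImplicit false
set_option linter.unusedSectionVars false
set_option linter.unusedVariables false

namespace Cfsg.Agent.Lib.Helper76.SS

open Equiv Function

/-- the action on a quotient by an invariant equivalence relation -/
@[reducible] def quotAction {K : Type*} [Group K] {A : Type*} [MulAction K A] (s : Setoid A)
    (hs : ∀ (k : K) (a b : A), s.r a b → s.r (k • a) (k • b)) : MulAction K (Quotient s) where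
  smul k := Quotient.map (fun a => k • a) (fun a b h => hs k a b h)
  one_smul q := by
    induction q using Quotient.inductionOn with
    | _ a => exact congrArg (Quotient.mk s) (one_smul K a)
  mul_smul k k' q := by
    induction q using Quotient.inductionOn with
    | _ a => exact congrArg (Quotient.mk s) (mul_smul k k' a)

theorem odd_sq {G : Type*} [Group G] {p : G} (h2 : p * p = 1) {m : ℕ} (hm : Odd m)
    (h : p ^ m = 1) : p = 1 := by
  obtain ⟨t, rfl⟩ := hm
  rwa [pow_succ, pow_mul, pow_two, h2, one_pow, one_mul] at h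

/-- **Main claim.** If `I` is a normal subgroup of `K` acting as a 2-group on the finite set `O`,
`x ∈ I` acts as a good permutation and `g` acts with odd order, then `g` acts trivially. -/
theorem act_trivial {K : Type*} [Group K] (I : Subgroup K) [hIn : I.Normal] (x g : K)
    (hx : x ∈ I) :
    ∀ (N : ℕ) (O : Type) [Finite O] [MulAction K O], Nat.card O = N →
      (∀ i ∈ I, ∃ m : ℕ, ∀ ω : O, i ^ (2 ^ m) • ω = ω) →
      (∃ m : ℕ, Odd m ∧ ∀ ω : O, g ^ m • ω = ω) →
      ¬ Bad (MulAction.toPerm x : Perm O) →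
      ∀ ω : O, g • ω = ω := by
  intro N
  induction N using Nat.strong_induction_on with
  | _ N ih =>
  intro O _ _ hN h2 hodd hbad
  classical
  let T : K →* Perm O := MulAction.toPermHom K O
  have hbadT : ¬ Bad (T x) := hbad
  -- it suffices to show that `g` acts as an involution
  suffices hsq : T g * T g = 1 by
    obtain ⟨m, hm, hgm⟩ := hodd
    have hpow : T g ^ m = 1 := by
      rw [← map_pow]; ext ω; exact hgm ω
    have := odd_sq hsq hm hpow
    intro ω
    have e := congrArg (fun f : Perm O => f ω) this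
    exact e
  have hIp : IsPGroup 2 ↥(I.map T) := by
    rintro ⟨j, hj⟩
    obtain ⟨i, hi, rfl⟩ := Subgroup.mem_map.1 hj
    obtain ⟨m, hm⟩ := h2 i hi
    refine ⟨m, Subtype.ext ?_⟩
    show (T i) ^ (2 ^ m) = 1
    rw [← map_pow]; ext ω; exact hm ω
  by_cases hI : I.map T = ⊥
  · -- `x` acts trivially, so there are at most two points
    have hTx : T x = 1 := by
      have : T x ∈ I.map T := Subgroup.mem_map_of_mem T hx
      rw [hI] at this
      exact Subgroup.mem_bot.1 this
    rw [hTx] at hbadT
    have := Fintype.ofFinite O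
    have hcard : Fintype.card O ≤ 2 := by
      by_contra hcon
      push Not at hcon
      obtain ⟨a, b, c, hab, hac, hbc⟩ := Fintype.two_lt_card_iff.1 hcon
      have per1 : ∀ u v : O, minimalPeriod (1 : Perm O) u = minimalPeriod (1 : Perm O) v :=
        fun u v => per_eq_of (fun k => by simp)
      exact hbadT ⟨a, b, c, hbc, ⟨by rw [Perm.sameCycle_one]; exact hab, per1 a b⟩,
        ⟨by rw [Perm.sameCycle_one]; exact hac, per1 a c⟩⟩
    have hc : Fintype.card (Perm O) ∣ 2 := by
      rw [Fintype.card_perm]
      interval_cases (Fintype.card O) <;> decide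
    have : (T g) ^ 2 = 1 := orderOf_dvd_iff_pow_eq_one.1 ((orderOf_dvd_card).trans hc)
    rwa [pow_two] at this
  · -- a central involution of the image of `I`
    have hnt : Nontrivial ↥(I.map T) := (Subgroup.nontrivial_iff_ne_bot _).2 hI
    have : Fact (Nat.Prime 2) := ⟨Nat.prime_two⟩
    have hcn : Nontrivial ↥(Subgroup.center ↥(I.map T)) := hIp.center_nontrivial
    obtain ⟨e, he, hcard⟩ := (hIp.to_subgroup (Subgroup.center ↥(I.map T))).nontrivial_iff_card.1 hcn
    have hdvd : 2 ∣ Nat.card ↥(Subgroup.center ↥(I.map T)) := by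
      rw [hcard]; exact dvd_pow_self 2 he.ne'
    obtain ⟨zc, hzc⟩ := exists_prime_orderOf_dvd_card' 2 hdvd
    let NN : Set (Perm O) := {n | n ∈ I.map T ∧ n * n = 1 ∧ ∀ j ∈ I.map T, j * n = n * j}
    have hn₀ : ((zc : ↥(I.map T)) : Perm O) ∈ NN := by
      refine ⟨(zc : ↥(I.map T)).2, ?_, fun j hj => ?_⟩
      · have h1 := pow_orderOf_eq_one zc
        rw [hzc] at h1
        have h2 := congrArg (fun w : ↥(Subgroup.center ↥(I.map T)) => ((w : ↥(I.map T)) : Perm O)) h1
        simpa [pow_two] using h2
      · have h1 := Subgroup.mem_center_iff.1 zc.2 ⟨j, hj⟩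
        exact congrArg Subtype.val h1
    have hn₀1 : ((zc : ↥(I.map T)) : Perm O) ≠ 1 := by
      intro h1
      have : zc = 1 := Subtype.ext (Subtype.ext h1)
      rw [this, orderOf_one] at hzc
      exact absurd hzc (by norm_num)
    have hNx : ∀ n ∈ NN, n * T x = T x * n := fun n hn =>
      (hn.2.2 (T x) (Subgroup.mem_map_of_mem T hx)).symm
    have hag : ∀ n ∈ NN, ∀ n' ∈ NN, ∀ ω, n ω ≠ ω → n' ω ≠ ω → n ω = n' ω :=
      fun n hn n' hn' ω h h' => agree hbadT hn.2.1 hn'.2.1 (hNx n hn) (hNx n' hn') h h'
    obtain ⟨σ, hσσ, hσN, hσM, hσc⟩ := exists_sigma NN (fun n hn => hn.2.1) hag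
    have hconjI : ∀ k : K, ∀ j ∈ I.map T, T k * j * (T k)⁻¹ ∈ I.map T := by
      intro k j hj
      obtain ⟨i, hi, rfl⟩ := Subgroup.mem_map.1 hj
      rw [← map_inv, ← map_mul, ← map_mul]
      exact Subgroup.mem_map_of_mem T (hIn.conj_mem i hi k)
    have hconj : ∀ k : K, ∀ n ∈ NN, T k * n * (T k)⁻¹ ∈ NN := by
      rintro k n ⟨hnI, hn2, hnc⟩
      refine ⟨hconjI k n hnI, ?_, fun j hj => ?_⟩
      · calc T k * n * (T k)⁻¹ * (T k * n * (T k)⁻¹) = T k * (n * n) * (T k)⁻¹ := by group
          _ = 1 := by rw [hn2]; group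
      · have hj' : (T k)⁻¹ * j * T k ∈ I.map T := by
          have := hconjI k⁻¹ j hj
          rwa [map_inv, inv_inv] at this
        have hcomm := hnc _ hj'
        calc j * (T k * n * (T k)⁻¹) = T k * ((T k)⁻¹ * j * T k * n) * (T k)⁻¹ := by group
          _ = T k * (n * ((T k)⁻¹ * j * T k)) * (T k)⁻¹ := by rw [hcomm]
          _ = T k * n * (T k)⁻¹ * j := by group
    have hσK : ∀ (k : K) (ω : O), σ (k • ω) = k • σ ω := fun k ω =>
      hσc (T k) (hconj k) (fun n hn => by
        have := hconj k⁻¹ n hn
        rwa [map_inv, inv_inv] at this) ω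
    obtain ⟨ω₀, hω₀⟩ : ∃ ω₀, σ ω₀ ≠ ω₀ := by
      by_contra hcon
      push Not at hcon
      apply hn₀1
      ext ω
      rcases hσN _ hn₀ ω with e1 | e1
      · exact e1
      · rw [e1]; exact hcon ω
    -- the fixed part
    let SF : SubMulAction K O :=
      { carrier := {ω | σ ω = ω}
        smul_mem' := fun k ω (hω : σ ω = ω) => by
          show σ (k • ω) = k • ω
          rw [hσK, hω] }
    have gF : ∀ ω, σ ω = ω → g • ω = ω := by
      intro ω hω
      have hlt : Nat.card ↥SF < N := hN ▸ Finite.card_subtype_lt (p := fun ω => ω ∈ SF) (x := ω₀) hω₀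
      have h2F : ∀ i ∈ I, ∃ m : ℕ, ∀ ω : ↥SF, i ^ (2 ^ m) • ω = ω := fun i hi =>
        (h2 i hi).imp (fun m hm ω => Subtype.ext (hm ω))
      have hoddF : ∃ m : ℕ, Odd m ∧ ∀ ω : ↥SF, g ^ m • ω = ω := by
        obtain ⟨m, hm, hgm⟩ := hodd
        exact ⟨m, hm, fun ω => Subtype.ext (hgm ω)⟩
      have hbadF : ¬ Bad (MulAction.toPerm x : Perm ↥SF) := fun hb =>
        hbad (hb.of_injective Subtype.val_injective (fun a => rfl))
      have := ih (Nat.card ↥SF) hlt ↥SF rfl h2F hoddF hbadF ⟨ω, hω⟩
      exact congrArg Subtype.val this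
    -- the moved part and its quotient
    let SM : SubMulAction K O :=
      { carrier := {ω | σ ω ≠ ω}
        smul_mem' := fun k ω (hω : σ ω ≠ ω) => by
          show σ (k • ω) ≠ k • ω
          rw [hσK]
          exact fun e => hω (MulAction.injective k e) }
    let st : Setoid ↥SM :=
      { r := fun a b => (b : O) = a ∨ (b : O) = σ a
        iseqv := ⟨fun a => Or.inl rfl, fun {a b} h => by
          rcases h with h | h
          · exact Or.inl h.symm
          · exact Or.inr (by rw [h, hσσ]), fun {a b c} h1 h2 => by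
          rcases h1 with h1 | h1 <;> rcases h2 with h2 | h2
          · exact Or.inl (h2.trans h1)
          · exact Or.inr (by rw [h2, h1])
          · exact Or.inr (h2.trans h1)
          · exact Or.inl (by rw [h2, h1, hσσ])⟩ }
    have hst : ∀ (k : K) (a b : ↥SM), st.r a b → st.r (k • a) (k • b) := by
      intro k a b h
      rcases h with h | h
      · exact Or.inl (congrArg (fun w => k • w) h)
      · refine Or.inr ?_
        show k • (b : O) = σ (k • (a : O))
        rw [h, hσK]
    have gM : ∀ ω, σ ω ≠ ω → g • ω = ω ∨ g • ω = σ ω := by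
      intro ω hω
      let _ : MulAction K (Quotient st) := quotAction st hst
      have hfM : Fintype ↥SM := Fintype.ofFinite _
      have hfQ : Fintype (Quotient st) := Fintype.ofFinite _
      have hlt1 : Fintype.card (Quotient st) < Fintype.card ↥SM := by
        refine Fintype.card_lt_of_surjective_not_injective (Quotient.mk st) Quotient.mk_surjective
          (fun hinj => ?_)
        have hσω₀ : σ (σ ω₀) ≠ σ ω₀ := by rw [hσσ]; exact fun e => hω₀ e.symm
        have : (⟨ω₀, hω₀⟩ : ↥SM) = ⟨σ ω₀, hσω₀⟩ := hinj (Quotient.sound (Or.inr rfl))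
        exact hω₀ (congrArg Subtype.val this).symm
      have hlt : Nat.card (Quotient st) < N := by
        rw [Nat.card_eq_fintype_card]
        have h1 : Nat.card ↥SM ≤ Nat.card O := Finite.card_subtype_le _
        rw [Nat.card_eq_fintype_card, hN] at h1
        omega
      have h2Q : ∀ i ∈ I, ∃ m : ℕ, ∀ q : Quotient st, i ^ (2 ^ m) • q = q := by
        intro i hi
        obtain ⟨m, hm⟩ := h2 i hi
        refine ⟨m, fun q => ?_⟩
        induction q using Quotient.inductionOn with
        | _ a => exact congrArg (Quotient.mk st) (Subtype.ext (hm a))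
      have hoddQ : ∃ m : ℕ, Odd m ∧ ∀ q : Quotient st, g ^ m • q = q := by
        obtain ⟨m, hm, hgm⟩ := hodd
        refine ⟨m, hm, fun q => ?_⟩
        induction q using Quotient.inductionOn with
        | _ a => exact congrArg (Quotient.mk st) (Subtype.ext (hgm a))
      have hbadQ : ¬ Bad (MulAction.toPerm x : Perm (Quotient st)) := by
        intro hb
        let sM : ↥SM → ↥SM := fun a => ⟨σ a, by
          show σ (σ a) ≠ σ a
          rw [hσσ]; exact fun e => a.2 e.symm⟩
        have hbM : Bad (MulAction.toPerm x : Perm ↥SM) :=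
          Bad.of_quotient (φ := Quotient.mk st) Quotient.mk_surjective (s := sM)
            (fun a => Subtype.ext (hσσ a)) (fun a e => a.2 (congrArg Subtype.val e))
            (fun a => Subtype.ext (hσK x a))
            (fun a b => ⟨fun h => (Quotient.exact h).imp Subtype.ext Subtype.ext,
              fun h => Quotient.sound (h.imp (congrArg Subtype.val) (congrArg Subtype.val))⟩)
            (fun a => rfl) hb
        exact hbad (hbM.of_injective Subtype.val_injective (fun a => rfl))
      have := ih (Nat.card (Quotient st)) hlt (Quotient st) rfl h2Q hoddQ hbadQ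
        (Quotient.mk st ⟨ω, hω⟩)
      have hr : st.r ⟨ω, hω⟩ (g • (⟨ω, hω⟩ : ↥SM)) := Quotient.exact this.symm
      exact hr
    have hall : ∀ ω, g • ω = ω ∨ g • ω = σ ω := fun ω => by
      by_cases h : σ ω = ω
      · exact Or.inl (gF ω h)
      · exact gM ω h
    ext ω
    show g • g • ω = ω
    rcases hall ω with e | e
    · rw [e, e]
    · rw [e, ← hσK, e, hσσ]

end Cfsg.Agent.Lib.Helper76.SS
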