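import Mathlib
import Cfsg.Agent.Lib.Helper76.SylSnA
import Cfsg.Agent.Lib.Helper76.SylSnB

/-!
# Two-elements of symmetric groups in a unique Sylow 2-subgroup: assembly
(helper76, for S4349)
-/

set_option autoImplicit false
set_option linter.unusedSectionVars false
set_option linter.unusedVariables false

namespace Cfsg.Agent.Lib.Helper76.SS

open Equiv Function

section swapgroup

variable {A : Type*} [DecidableEq A] [Fintype A]

theorem zpow_eq_iff (y : Perm A) (u : A) (k j : ℤ) :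
    (y ^ k) u = (y ^ j) u ↔ (minimalPeriod y u : ℤ) ∣ k - j := by
  rw [← zpow_fix_iff, sub_eq_neg_add, zpow_add, Perm.mul_apply, zpow_neg, Perm.inv_eq_iff_eq]

/-- a 2-element and a transposition of two parallel points generate a 2-group -/
theorem exists_two_group_swap (x : Perm A) (hx : ∃ k : ℕ, orderOf x = 2 ^ k) {u v : A}
    (hp : Par x u v) : ∃ H : Subgroup (Perm A), IsPGroup 2 H ∧ x ∈ H ∧ swap u v ∈ H := by
  classical
  let S : Set (Perm A) := {t | ∃ k : ℤ, t = swap ((x ^ k) u) ((x ^ k) v)}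
  have hne : ∀ k j : ℤ, (x ^ k) u ≠ (x ^ j) v := by
    intro k j e
    apply hp.1
    refine ⟨-j + k, ?_⟩
    rw [zpow_add, Perm.mul_apply, e, ← Perm.mul_apply, ← zpow_add]
    simp
  have heq : ∀ k j : ℤ, (x ^ k) u = (x ^ j) u → (x ^ k) v = (x ^ j) v := by
    intro k j e
    rw [zpow_eq_iff, ← hp.2, ← zpow_eq_iff]; exact e
  have heq' : ∀ k j : ℤ, (x ^ k) v = (x ^ j) v → (x ^ k) u = (x ^ j) u := by
    intro k j e
    rw [zpow_eq_iff, hp.2, ← zpow_eq_iff]; exact e
  have hcomm : ∀ s ∈ S, ∀ t ∈ S, Commute s t := by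
    rintro _ ⟨k, rfl⟩ _ ⟨j, rfl⟩
    by_cases e : (x ^ k) u = (x ^ j) u
    · rw [e, heq k j e]
    · have e' : (x ^ k) v ≠ (x ^ j) v := fun e' => e (heq' k j e')
      refine (Equiv.Perm.disjoint_swap_swap ?_).commute
      simp only [List.nodup_cons, List.mem_cons, List.not_mem_nil, or_false, not_or,
        List.nodup_nil, and_true, not_false_eq_true]
      exact ⟨⟨hne k k, e, hne k j⟩, ⟨(hne j k).symm, e'⟩, hne j j⟩
  have h1 : ∀ a ∈ Subgroup.closure S, ∀ s ∈ S, Commute a s := by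
    intro a ha s hs
    exact Subgroup.closure_induction (p := fun a _ => Commute a s) (fun t ht => hcomm t ht s hs)
      (Commute.one_left s) (fun a b _ _ ha hb => ha.mul_left hb) (fun a _ ha => ha.inv_left) ha
  have h2 : ∀ a ∈ Subgroup.closure S, ∀ b ∈ Subgroup.closure S, Commute a b := by
    intro a ha b hb
    exact Subgroup.closure_induction (p := fun b _ => Commute a b) (fun t ht => h1 a ha t ht)
      (Commute.one_right a) (fun b c _ _ hb hc => hb.mul_right hc) (fun b _ hb => hb.inv_right) hb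
  have h3 : ∀ a ∈ Subgroup.closure S, a * a = 1 := by
    intro a ha
    induction ha using Subgroup.closure_induction with
    | mem t ht =>
      obtain ⟨k, rfl⟩ := ht
      exact Equiv.swap_mul_self _ _
    | one => simp
    | mul a b ha hb iha ihb =>
      calc a * b * (a * b) = a * (b * a) * b := by group
        _ = a * (a * b) * b := by rw [(h2 b hb a ha).eq]
        _ = (a * a) * (b * b) := by group
        _ = 1 := by rw [iha, ihb, one_mul]
    | inv a ha iha => rw [← mul_inv_rev, iha, inv_one]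
  have hNp : IsPGroup 2 ↥(Subgroup.closure S) := fun ⟨a, ha⟩ =>
    ⟨1, Subtype.ext (by
      show a ^ 2 ^ 1 = 1
      rw [pow_one, pow_two]; exact h3 a ha)⟩
  have hcS : ∀ s ∈ S, x * s * x⁻¹ ∈ S := by
    rintro _ ⟨k, rfl⟩
    exact ⟨1 + k, by rw [← Equiv.swap_apply_apply, zpow_one_add, Perm.mul_apply, Perm.mul_apply]⟩
  have hcS' : ∀ s ∈ S, x⁻¹ * s * x⁻¹⁻¹ ∈ S := by
    rintro _ ⟨k, rfl⟩
    exact ⟨-1 + k, by
      rw [← Equiv.swap_apply_apply, zpow_add, zpow_neg_one, Perm.mul_apply, Perm.mul_apply]⟩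
  have hN1 : Subgroup.closure S ≤ (Subgroup.closure S).comap (MulAut.conj x).toMonoidHom :=
    (Subgroup.closure_le _).2 (fun s hs => Subgroup.subset_closure (hcS s hs))
  have hN2 : Subgroup.closure S ≤ (Subgroup.closure S).comap (MulAut.conj x⁻¹).toMonoidHom :=
    (Subgroup.closure_le _).2 (fun s hs => Subgroup.subset_closure (hcS' s hs))
  have hxn : x ∈ Subgroup.normalizer (Subgroup.closure S : Set (Perm A)) := by
    rw [Subgroup.mem_normalizer_iff]
    intro a
    refine ⟨fun ha => hN1 ha, fun ha => ?_⟩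
    have h : x⁻¹ * (x * a * x⁻¹) * x⁻¹⁻¹ ∈ Subgroup.closure S := hN2 ha
    have e : x⁻¹ * (x * a * x⁻¹) * x⁻¹⁻¹ = a := by group
    rwa [e] at h
  have hzp : IsPGroup 2 ↥(Subgroup.zpowers x) := by
    obtain ⟨k, hk⟩ := hx
    exact IsPGroup.of_card (n := k) (by rw [Nat.card_zpowers, hk])
  refine ⟨Subgroup.zpowers x ⊔ Subgroup.closure S,
    IsPGroup.to_sup_of_normal_right' hzp hNp (Subgroup.zpowers_le.2 hxn),
    (le_sup_left : Subgroup.zpowers x ≤ _) (Subgroup.mem_zpowers x),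
    (le_sup_right : Subgroup.closure S ≤ _) (Subgroup.subset_closure ⟨0, by simp⟩)⟩

/-- a bad 2-element lies in at least two Sylow 2-subgroups -/
theorem not_unique_of_bad (x : Perm A) (hx : ∃ k : ℕ, orderOf x = 2 ^ k) (hb : Bad x)
    (P : Sylow 2 (Perm A)) (hP : ∀ Q : Sylow 2 (Perm A), x ∈ Q → Q = P) : False := by
  obtain ⟨u, v, v', hne, h1, h2⟩ := hb
  obtain ⟨H1, hH1, hx1, hs1⟩ := exists_two_group_swap x hx h1
  obtain ⟨H2, hH2, hx2, hs2⟩ := exists_two_group_swap x hx h2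
  obtain ⟨Q1, hQ1⟩ := hH1.exists_le_sylow
  obtain ⟨Q2, hQ2⟩ := hH2.exists_le_sylow
  have e1 := hP Q1 (hQ1 hx1)
  have e2 := hP Q2 (hQ2 hx2)
  have m1 : swap u v ∈ P := e1 ▸ hQ1 hs1
  have m2 : swap u v' ∈ P := e2 ▸ hQ2 hs2
  have huv : u ≠ v := fun e => h1.1 (e ▸ Perm.SameCycle.refl _ _)
  have huv' : u ≠ v' := fun e => h2.1 (e ▸ Perm.SameCycle.refl _ _)
  have h3 : (swap u v * swap u v').IsThreeCycle :=
    Perm.isThreeCycle_swap_mul_swap_same huv huv' hne
  have hm : swap u v * swap u v' ∈ P := P.mul_mem m1 m2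
  obtain ⟨k, hk⟩ := (IsPGroup.iff_orderOf.1 P.isPGroup') ⟨_, hm⟩
  rw [Subgroup.orderOf_mk, h3.orderOf] at hk
  rcases k with _ | k
  · simp at hk
  · rw [pow_succ] at hk; omega

end swapgroup

section translate

variable {A : Type*} [DecidableEq A] [Fintype A]

theorem per_eq_card (x : Perm A) {u : A} (hu : x u ≠ u) :
    minimalPeriod x u = (x.cycleOf u).support.card := by
  have hc := Perm.isCycleOn_support_cycleOf x u
  have hmem : u ∈ (x.cycleOf u).support := by
    rw [Perm.mem_support_cycleOf_iff]; exact ⟨Perm.SameCycle.refl _ _, Perm.mem_support.2 hu⟩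
  apply Nat.dvd_antisymm
  · rw [← pow_fix_iff, hc.pow_apply_eq hmem]
  · rw [← hc.pow_apply_eq hmem, pow_fix_iff]

theorem bad_of_fixed (x : Perm A) (h : x.support.card + 2 < Fintype.card A) : Bad x := by
  have hc : 2 < (x.supportᶜ).card := by rw [Finset.card_compl]; omega
  obtain ⟨a, ha, b, hb, c, hc', hab, hac, hbc⟩ := Finset.two_lt_card.1 hc
  have fa : x a = a := by simpa using ha
  have fb : x b = b := by simpa using hb
  have fc : x c = c := by simpa using hc'
  have per : ∀ w, x w = w → minimalPeriod x w = 1 := fun w hw =>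
    minimalPeriod_eq_one_iff_isFixedPt.2 hw
  exact ⟨a, b, c, hbc, ⟨fun hsc => hab (sameCycle_fixed fa hsc).symm, by rw [per a fa, per b fb]⟩,
    ⟨fun hsc => hac (sameCycle_fixed fa hsc).symm, by rw [per a fa, per c fc]⟩⟩

theorem bad_of_not_nodup (x : Perm A) (h : ¬ x.cycleType.Nodup) : Bad x := by
  rw [Perm.cycleType_def, Multiset.nodup_map_iff_inj_on x.cycleFactorsFinset.nodup] at h
  push Not at h
  obtain ⟨c, hc, c', hc', hcard, hne⟩ := h
  have hc1 := Perm.mem_cycleFactorsFinset_iff.1 hc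
  have hc1' := Perm.mem_cycleFactorsFinset_iff.1 hc'
  obtain ⟨u, hu⟩ := hc1.1.nonempty_support
  obtain ⟨v, hv⟩ := hc1'.1.nonempty_support
  have ec : c = x.cycleOf u := Perm.cycle_is_cycleOf hu hc
  have ec' : c' = x.cycleOf v := Perm.cycle_is_cycleOf hv hc'
  have hxu : x u ≠ u := by rw [← hc1.2 u hu]; exact Perm.mem_support.1 hu
  have hxv : x v ≠ v := by rw [← hc1'.2 v hv]; exact Perm.mem_support.1 hv
  have hsc : ¬ x.SameCycle u v := fun hsc => hne (by rw [ec, ec', hsc.cycleOf_eq])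
  have hper : minimalPeriod x u = minimalPeriod x v := by
    rw [per_eq_card x hxu, per_eq_card x hxv, ← ec, ← ec']; exact hcard
  refine ⟨u, v, x v, fun e => hxv e.symm, ⟨hsc, hper⟩, ⟨by rwa [Perm.sameCycle_apply_right], ?_⟩⟩
  rw [per_comm x.injective (fun _ => rfl)]; exact hper

theorem not_cond_of_bad (x : Perm A) (hb : Bad x) (h1 : Fintype.card A ≤ x.support.card + 2)
    (h2 : x.cycleType.Nodup) : False := by
  obtain ⟨u, v, v', hne, ⟨hs, hp⟩, ⟨hs', hp'⟩⟩ := hb
  by_cases hu : x u = u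
  · have pu : minimalPeriod x u = 1 := minimalPeriod_eq_one_iff_isFixedPt.2 hu
    have hv : x v = v := minimalPeriod_eq_one_iff_isFixedPt.1 (by rw [← hp]; exact pu)
    have hv' : x v' = v' := minimalPeriod_eq_one_iff_isFixedPt.1 (by rw [← hp']; exact pu)
    have huv : u ≠ v := fun e => hs (e ▸ Perm.SameCycle.refl _ _)
    have huv' : u ≠ v' := fun e => hs' (e ▸ Perm.SameCycle.refl _ _)
    have : 2 < (x.supportᶜ).card := Finset.two_lt_card.2
      ⟨u, by simpa using hu, v, by simpa using hv, v', by simpa using hv', huv, huv', hne⟩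
    rw [Finset.card_compl] at this
    omega
  · have hv : x v ≠ v := fun e => hu (minimalPeriod_eq_one_iff_isFixedPt.1
      (by rw [hp]; exact minimalPeriod_eq_one_iff_isFixedPt.2 e))
    rw [Perm.cycleType_def, Multiset.nodup_map_iff_inj_on x.cycleFactorsFinset.nodup] at h2
    have m1 : x.cycleOf u ∈ x.cycleFactorsFinset :=
      Perm.cycleOf_mem_cycleFactorsFinset_iff.2 (Perm.mem_support.2 hu)
    have m2 : x.cycleOf v ∈ x.cycleFactorsFinset :=
      Perm.cycleOf_mem_cycleFactorsFinset_iff.2 (Perm.mem_support.2 hv)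
    have e := h2 _ m1 _ m2 (by
      simp only [Function.comp_apply]
      rw [← per_eq_card x hu, ← per_eq_card x hv]; exact hp)
    apply hs
    have hvm : v ∈ (x.cycleOf v).support := by
      rw [Perm.mem_support_cycleOf_iff]; exact ⟨Perm.SameCycle.refl _ _, Perm.mem_support.2 hv⟩
    rw [← e, Perm.mem_support_cycleOf_iff] at hvm
    exact hvm.1

theorem good_iff (x : Perm A) :
    ¬ Bad x ↔ (Fintype.card A ≤ x.support.card + 2 ∧ x.cycleType.Nodup) := by
  constructor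
  · intro hg
    refine ⟨?_, ?_⟩
    · by_contra h
      exact hg (bad_of_fixed x (by omega))
    · by_contra h
      exact hg (bad_of_not_nodup x h)
  · rintro ⟨h1, h2⟩ hb
    exact not_cond_of_bad x hb h1 h2

end translate

section unique

variable {n : ℕ}

theorem normalizer_isPGroup (x : Perm (Fin n)) (hg : ¬ Bad x) (I : Subgroup (Perm (Fin n)))
    (hI : IsPGroup 2 I) (hxI : x ∈ I) :
    IsPGroup 2 ↥(Subgroup.normalizer (I : Set (Perm (Fin n)))) := by
  rintro ⟨h, hh⟩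
  obtain ⟨a, m, hm, hord⟩ := Nat.exists_eq_two_pow_mul_odd (orderOf_pos h).ne'
  refine ⟨a, Subtype.ext ?_⟩
  show h ^ 2 ^ a = 1
  have hxK : (⟨x, Subgroup.le_normalizer hxI⟩ : ↥(Subgroup.normalizer (I : Set (Perm (Fin n))))) ∈ I.subgroupOf (Subgroup.normalizer (I : Set (Perm (Fin n)))) :=
    Subgroup.mem_subgroupOf.2 hxI
  have key := act_trivial (I.subgroupOf (Subgroup.normalizer (I : Set (Perm (Fin n))))) ⟨x, Subgroup.le_normalizer hxI⟩
    ((⟨h, hh⟩ : ↥(Subgroup.normalizer (I : Set (Perm (Fin n))))) ^ 2 ^ a) hxK (Nat.card (Fin n)) (Fin n) rfl ?_ ?_ ?_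
  · exact Equiv.ext (fun ω => key ω)
  · intro i hi
    obtain ⟨k, hk⟩ := hI ⟨(i : Perm (Fin n)), Subgroup.mem_subgroupOf.1 hi⟩
    refine ⟨k, fun ω => ?_⟩
    have hk' : (i : Perm (Fin n)) ^ 2 ^ k = 1 := congrArg Subtype.val hk
    show ((i ^ 2 ^ k : ↥(Subgroup.normalizer (I : Set (Perm (Fin n))))) : Perm (Fin n)) ω = ω
    rw [Subgroup.coe_pow, hk']; rfl
  · refine ⟨m, hm, fun ω => ?_⟩
    show ((((⟨h, hh⟩ : ↥(Subgroup.normalizer (I : Set (Perm (Fin n))))) ^ 2 ^ a) ^ m : ↥(Subgroup.normalizer (I : Set (Perm (Fin n))))) : Perm (Fin n)) ω = ω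
    have : ((((⟨h, hh⟩ : ↥(Subgroup.normalizer (I : Set (Perm (Fin n))))) ^ 2 ^ a) ^ m : ↥(Subgroup.normalizer (I : Set (Perm (Fin n))))) : Perm (Fin n)) = 1 := by
      rw [Subgroup.coe_pow, Subgroup.coe_pow]
      show (h ^ 2 ^ a) ^ m = 1
      rw [← pow_mul, ← hord, pow_orderOf_eq_one]
    rw [this]; rfl
  · have e : (MulAction.toPerm (⟨x, Subgroup.le_normalizer hxI⟩ : ↥(Subgroup.normalizer (I : Set (Perm (Fin n))))) : Perm (Fin n)) = x := by
      ext ω; rfl
    rw [e]; exact hg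

theorem sylow_eq_of_le {G : Type*} [Group G] {p : ℕ} {P Q : Sylow p G}
    (h : (P : Subgroup G) ≤ Q) : P = Q :=
  Sylow.ext (P.is_maximal' Q.isPGroup' h).symm

theorem sylow_unique (x : Perm (Fin n)) (hg : ¬ Bad x) :
    ∀ (m : ℕ) (P Q : Sylow 2 (Perm (Fin n))), x ∈ P → x ∈ Q →
      Nat.card (Perm (Fin n)) - Nat.card ↥((P : Subgroup (Perm (Fin n))) ⊓ Q) = m → P = Q := by
  intro m
  induction m using Nat.strong_induction_on with
  | _ m ih =>
  intro P Q hxP hxQ hm
  by_contra hne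
  have hIp : IsPGroup 2 ↥((P : Subgroup (Perm (Fin n))) ⊓ Q) := P.isPGroup'.to_le inf_le_left
  have hNp := normalizer_isPGroup x hg _ hIp ⟨hxP, hxQ⟩
  obtain ⟨R, hR⟩ := hNp.exists_le_sylow
  have hxR : x ∈ R := hR (Subgroup.le_normalizer ⟨hxP, hxQ⟩)
  have step : ∀ S : Sylow 2 (Perm (Fin n)), x ∈ S →
      (P : Subgroup (Perm (Fin n))) ⊓ Q ≤ S → ¬ ((S : Subgroup (Perm (Fin n))) ≤ (P : Subgroup (Perm (Fin n))) ⊓ Q) →
      S = R := by
    intro S hxS hIS hSI
    have hnil : Group.IsNilpotent ↥(S : Subgroup (Perm (Fin n))) := S.isPGroup'.isNilpotent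
    have hnc := Group.normalizerCondition_of_isNilpotent (G := ↥(S : Subgroup (Perm (Fin n))))
    have hlt : (((P : Subgroup (Perm (Fin n))) ⊓ Q).subgroupOf S) < ⊤ :=
      lt_top_iff_ne_top.2 (fun e => hSI (Subgroup.subgroupOf_eq_top.1 e))
    obtain ⟨y, hyN, hyI⟩ := SetLike.exists_of_lt (hnc _ hlt)
    rw [← Subgroup.subgroupOf_normalizer_eq hIS] at hyN
    have hyN' : (y : Perm (Fin n)) ∈ Subgroup.normalizer
        (((P : Subgroup (Perm (Fin n))) ⊓ Q : Subgroup (Perm (Fin n))) : Set (Perm (Fin n))) :=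
      Subgroup.mem_subgroupOf.1 hyN
    have hyI' : (y : Perm (Fin n)) ∉ (P : Subgroup (Perm (Fin n))) ⊓ Q := fun h =>
      hyI (Subgroup.mem_subgroupOf.2 h)
    have hss : (((P : Subgroup (Perm (Fin n))) ⊓ Q : Subgroup (Perm (Fin n))) : Set (Perm (Fin n))) ⊂
        (((S : Subgroup (Perm (Fin n))) ⊓ R : Subgroup (Perm (Fin n))) : Set (Perm (Fin n))) := by
      refine ⟨fun z hz => ⟨hIS hz, hR (Subgroup.le_normalizer hz)⟩, fun hsub => ?_⟩
      exact hyI' (hsub ⟨y.2, hR hyN'⟩)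
    have hcard := Set.Finite.card_lt_card (Set.toFinite _) hss
    have hle : Nat.card ↥((S : Subgroup (Perm (Fin n))) ⊓ R) ≤ Nat.card (Perm (Fin n)) :=
      Subgroup.card_le_card_group _
    exact ih (Nat.card (Perm (Fin n)) - Nat.card ↥((S : Subgroup (Perm (Fin n))) ⊓ R))
      (by
        have h1 : Nat.card ↥((P : Subgroup (Perm (Fin n))) ⊓ Q) <
          Nat.card ↥((S : Subgroup (Perm (Fin n))) ⊓ R) := hcard
        omega) S R hxS hxR rfl
  have e1 : P = R := step P hxP inf_le_left (fun h => hne (sylow_eq_of_le (h.trans inf_le_right)))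
  have e2 : Q = R := step Q hxQ inf_le_right
    (fun h => hne (sylow_eq_of_le (h.trans inf_le_left)).symm)
  exact hne (e1.trans e2.symm)

theorem unique_iff_good (x : Perm (Fin n)) (hx : ∃ k : ℕ, orderOf x = 2 ^ k) :
    (∃! P : Sylow 2 (Perm (Fin n)), x ∈ P) ↔ ¬ Bad x := by
  constructor
  · rintro ⟨P, hP, huniq⟩ hb
    exact not_unique_of_bad x hx hb P (fun Q hQ => huniq Q hQ)
  · intro hg
    have hz : IsPGroup 2 ↥(Subgroup.zpowers x) := by
      obtain ⟨k, hk⟩ := hx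
      exact IsPGroup.of_card (n := k) (by rw [Nat.card_zpowers, hk])
    obtain ⟨P, hP⟩ := hz.exists_le_sylow
    refine ⟨P, hP (Subgroup.mem_zpowers x), fun Q hQ => ?_⟩
    exact sylow_unique x hg _ Q P hQ (hP (Subgroup.mem_zpowers x)) rfl

end unique

end Cfsg.Agent.Lib.Helper76.SS
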